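import Cfsg.Agent.Lib.Spor.HeldRecog.Amalgam.Entries

/-!
# The data of an amalgam and what is checked of them

Six letters generate the centraliser; the seventh lies in the normalisers of both elementary subgroups.
-/

set_option autoImplicit false
set_option maxRecDepth 100000

namespace CfsgLib.Spor.HeldRecog.Amalgam

open CfsgLib.Spor.TC CfsgLib.Spor.HeldFusion

/-- The data of an amalgam. -/
structure AmData where
  dA : SideData
  dB : SideData
  lA : List Ent
  lB : List Ent
  tB : List Ent
  shA : List Ent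
  shB : List Ent
  hP : ℕ
  hSh : ℕ
  hShB : Ent
  hPB : ℕ
  gl : ℕ × ℕ
  crit : List (List ℕ)
  rels : List PowRel
  orbA : List (List ℕ)
  orbB : List (List ℕ)

variable (D : AmData)

/-- The entry of a letter in the normaliser of `A`. -/
def AmData.entA (i : ℕ) : Ent := D.lA.getD ([0, 1, 2, 3, 5, 4].getD i 5) (0, 0, [])
/-- The entry of a letter in the normaliser of `B`. -/
def AmData.entB (i : ℕ) : Ent := D.lB.getD ([0, 1, 5, 2, 3, 4].getD i 5) (0, 0, [])

/-- The seventh letter in the normaliser of `A`. -/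
noncomputable def AmData.hCodeA : ℕ := Frm.pmul (Frm.pk D.hSh 0 idG) D.hP
/-- The seventh letter in the normaliser of `B`. -/
noncomputable def AmData.hCodeB : ℕ :=
  Frm.pmul (D.dB.entPair D.hShB) (Frm.pmul D.hPB (Frm.pk D.gl.1 0 idG))

/-- The code of a letter in the normaliser of `A`. -/
noncomputable def AmData.pairA (i : ℕ) : ℕ := Bool.rec (D.dA.entPair (D.entA i)) D.hCodeA (Nat.beq i 6)
/-- The code of a letter in the normaliser of `B`. -/
noncomputable def AmData.pairB (i : ℕ) : ℕ := Bool.rec (D.dB.entPair (D.entB i)) D.hCodeB (Nat.beq i 6)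

/-- The entries are the generators. -/
noncomputable def AmData.lettersOK : Bool :=
  listAll (fun i => D.dA.entOK (D.entA i) && Nat.beq (D.entA i).1 (gensC.getD i 0)) [0, 1, 2, 3, 5] &&
    listAll (fun i => D.dB.entOK (D.entB i) && Nat.beq (D.entB i).1 (gensC.getD i 0)) [0, 1, 3, 4, 5] &&
    D.dB.entOK D.hShB && Nat.beq D.hShB.1 (aCode D.hSh) && Nat.blt D.hSh 64

/-- The lift used for the seventh letter permutes `B`. -/
noncomputable def AmData.actBOK : Bool :=
  allFrom (fun v => D.dA.entOK (D.tB.getD v (0, 0, [])) && Nat.beq (D.tB.getD v (0, 0, [])).1 (bCode v) &&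
    Nat.beq (Frm.pmul D.hP (D.dA.entPair (D.tB.getD v (0, 0, []))))
      (Frm.pmul (D.dA.entPair (D.tB.getD (app (Frm.pg D.hPB) v) (0, 0, []))) D.hP)) 0 64

/-- The lift codes. -/
noncomputable def AmData.partsOK : Bool := D.dA.liftOK D.hP && D.dB.liftOK D.hPB

/-- A common generator, or the lift, seen from `A`. -/
noncomputable def AmData.critA (b i : ℕ) : ℕ :=
  Bool.rec (D.dA.entPair (D.shA.getD i (0, 0, []))) (Frm.pmul D.hP (D.dA.entPair (D.tB.getD b (0, 0, []))))
    (Nat.beq i D.shA.length)

/-- A common generator, or the lift, seen from `B`. -/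
noncomputable def AmData.critB (i : ℕ) : ℕ :=
  Bool.rec (D.dB.entPair (D.shB.getD i (0, 0, []))) D.hPB (Nat.beq i D.shA.length)

/-- The difference of the two lifts is one of two, conjugate under the central involution. -/
noncomputable def AmData.critOK : Bool :=
  allFrom (fun i => D.dA.entOK (D.shA.getD i (0, 0, [])) && (D.dB.entOK (D.shB.getD i (0, 0, [])) &&
    Nat.beq (D.shA.getD i (0, 0, [])).1 (D.shB.getD i (0, 0, [])).1)) 0 D.shA.length &&
  listAll (fun l => listAll (fun i => Nat.blt i (Nat.succ D.shA.length)) l &&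
    Nat.beq (Frm.wcode D.critB l) Frm.pone) D.crit &&
  allFrom (fun b => (Nat.beq b D.gl.1 || Nat.beq b D.gl.2) ||
    listAny (fun l => Frm.notOne (Frm.wcode (D.critA b) l)) D.crit) 0 64 &&
  (Nat.beq (Frm.pmul (Frm.pk D.dA.z 0 idG)
      (Frm.pmul (Frm.pmul D.hP (D.dA.entPair (D.tB.getD D.gl.2 (0, 0, [])))) (Frm.pk D.dA.z 0 idG)))
      (Frm.pmul D.hP (D.dA.entPair (D.tB.getD D.gl.1 (0, 0, [])))) &&
    (Nat.blt D.gl.1 64 && Nat.blt D.gl.2 64))

/-- A relator holds in the centraliser, or in one of the two normalisers. -/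
noncomputable def AmData.relAt (r : PowRel) : Bool :=
  Nat.beq r.2 1 &&
    (((listAll (fun i => Nat.blt i 6) r.1 && Nat.beq (evC (fun i => gensC.getD i 0) r.1) 0) ||
      (listAll (fun i => Nat.blt i 7 && Bool.rec true false (Nat.beq i 4)) r.1 &&
        Nat.beq (Frm.wcode D.pairA r.1) Frm.pone)) ||
      (listAll (fun i => Nat.blt i 7 && Bool.rec true false (Nat.beq i 2)) r.1 &&
        Nat.beq (Frm.wcode D.pairB r.1) Frm.pone))

/-- The letters move `z` to every point of the class. -/
noncomputable def orbOK (S : SideData) (E : ℕ → ℕ) (x : ℕ) (orb : List (List ℕ)) : Bool :=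
  allFrom (fun v => Bool.rec true
    (listAny (fun l => listAll (fun i => Nat.blt i 7 && Bool.rec true false (Nat.beq i x)) l &&
      Nat.beq (app (Frm.pg (Frm.wcode E l)) S.z) v) orb)
    (Nat.testBit S.mask v)) 0 64

/-- What is checked of an amalgam. -/
structure AmData.Valid : Prop where
  codeA : D.dA.code = aCode
  codeB : D.dB.code = bCode
  samePat : D.dB.pat = D.dA.pat
  validA : D.dA.Valid labA
  validB : D.dB.Valid labB
  letters : D.lettersOK = true
  actB : D.actBOK = true
  parts : D.partsOK = true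
  critical : D.critOK = true
  relators : listAll D.relAt D.rels = true
  sq : Frm.pmul D.hCodeA D.hCodeA = Frm.pone
  orbitA : orbOK D.dA D.pairA 4 D.orbA = true
  orbitB : orbOK D.dB D.pairB 2 D.orbB = true

end CfsgLib.Spor.HeldRecog.Amalgam
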