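import Cfsg.Agent.Lib.Spor.HeldRecog.Amalgam.AmData
import Cfsg.Agent.Lib.Spor.HeldTri.Base

/-!
# The seven involutions of an amalgam, for any order

Six generate the centraliser, the seventh lies in the normalisers of both elementary subgroups of order 64;
all relators of the amalgam hold. The seven generate the group if the three subgroups do.
-/

set_option autoImplicit false
set_option linter.unusedSectionVars false
set_option linter.style.haveILetI false
set_option maxHeartbeats 600000

namespace CfsgLib.Spor.HeldRecog.Amalgam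

open CfsgLib.Spor.TC CfsgLib.Spor.HeldFusion Subgroup

variable {G : Type*} [Group G] [Finite G] {t : G}

theorem k_lt {S : SideData} {L : List ℕ} (hV : S.Valid L) : S.k1 < 21504 ∧ S.k2 < 21504 := by
  have h := hV.gen
  unfold SideData.genOK at h
  simp only [Bool.and_eq_true] at h
  exact ⟨Nat.le_of_ble_eq_true h.1.1, Nat.le_of_ble_eq_true h.1.2⟩

theorem pa_of_liftOK {S : SideData} {P : ℕ} (h : S.liftOK P = true) : Frm.pa P = 0 := by
  unfold SideData.liftOK at h
  rw [Bool.and_eq_true] at h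
  exact Nat.eq_of_beq_eq_true h.2

theorem gensC_facts : ∀ i < 6, gensC.getD i 0 ∈ gensC := by decide

theorem gensC_index : ∀ g ∈ gensC, ∃ i < 6, gensC.getD i 0 = g := by decide

theorem ev_mem_closure (g : ℕ → G) : ∀ l : List ℕ, ev g l ∈ closure (Set.range g)
  | [] => by simp [ev]
  | a :: l => by
    rw [ev_cons]
    exact mul_mem (subset_closure ⟨a, rfl⟩) (ev_mem_closure g l)

/-- Letters moving `z` over the class, and the centraliser, contain the normaliser. -/
theorem normalizer_le_of_orbit {S : SideData} {F : Frm G} {W : G} (hz : F.f S.z = t) (E : ℕ → ℕ) (x : ℕ)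
    (orb : List (List ℕ)) (g : ℕ → G) (hr : ∀ i, i < 7 → i ≠ x → F.Rep W (E i) (g i)) (hW : W ^ 3 = 1)
    (horb : orbOK S E x orb = true) (N : Subgroup G)
    (hN : ∀ n ∈ normalizer (N : Set G), ∃ v < 64, F.f v = n * t * n⁻¹ ∧ S.mask.testBit v = true)
    (hC : centralizer ({t} : Set G) ≤ closure (Set.range g)) (hzlt : S.z < 64) :
    normalizer (N : Set G) ≤ closure (Set.range g) := by
  intro n hn
  obtain ⟨v, hv, hfv, hmask⟩ := hN n hn
  have h := allFrom_spec horb v (Nat.zero_le v) (by omega)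
  rw [hmask] at h
  change listAny _ orb = true at h
  obtain ⟨l, -, hl⟩ := listAny_spec h
  rw [Bool.and_eq_true] at hl
  have hR := Frm.rep_ev hW g E fun i hi => by
    have h9 := listAll_spec hl.1 i hi
    rw [Bool.and_eq_true] at h9
    refine hr i (Nat.le_of_ble_eq_true h9.1) fun h4 => ?_
    rw [h4, Nat.beq_refl] at h9
    exact Bool.false_ne_true h9.2
  obtain ⟨y, hy, hxy⟩ := hR
  have hact : F.Acts (ev g l) (cmp idG (Frm.pg (Frm.wcode E l))) := by
    rw [hxy]
    exact F.acts_mul (F.acts_f (Frm.pa_lt _)) hy.1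
  have h2 := F.acts_conj hact hzlt
  rw [app_cmp, app_id (app_lt _ _), Nat.eq_of_beq_eq_true hl.2, hz, hfv] at h2
  have h3 : (ev g l)⁻¹ * n ∈ centralizer ({t} : Set G) := by
    refine mem_centralizer_singleton_iff.2 ?_
    calc (ev g l)⁻¹ * n * t = (ev g l)⁻¹ * (n * t * n⁻¹) * n := by group
      _ = (ev g l)⁻¹ * (ev g l * t * (ev g l)⁻¹) * n := by rw [h2]
      _ = _ := by group
  have := mul_mem (ev_mem_closure g l) (hC h3)
  rwa [mul_inv_cancel_left] at this

/-- **The seven involutions satisfy the relators of the amalgam.** -/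
theorem exists_letters_of_data {D : AmData} (hD : D.Valid) (e : Cen splitTab ≃* centralizer ({t} : Set G))
    (he : ((e ⟨64, by norm_num⟩ : _) : G) = t) (ht : orderOf t = 2) (hm : patt e = D.dA.pat) :
    ∃ g : ℕ → G, Sat 7 D.rels g ∧ g 0 ≠ 1 ∧
      (centralizer ({t} : Set G) ⊔ normalizer (sideA e : Set G) ⊔ normalizer (sideB e : Set G) = ⊤ →
        closure (Set.range g) = ⊤) := by
  have htrA : ∀ a ∈ (HeldTri.sideDataA e he ht).A, IsConj t a →
      ∃ n ∈ normalizer ((HeldTri.sideDataA e he ht).A : Set G), n * t * n⁻¹ = a :=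
    fun a ha h => HeldTri.transitive_sideA e he ht ha h
  have htrB : ∀ a ∈ (HeldTri.sideDataB e he ht).A, IsConj t a →
      ∃ n ∈ normalizer ((HeldTri.sideDataB e he ht).A : Set G), n * t * n⁻¹ = a :=
    fun a ha h => HeldTri.transitive_sideB e he ht ha h
  have hlA : ∀ v < 64, D.dA.code v < 21504 := fun v hv => by rw [hD.codeA]; exact (code_facts hv).2.2.1
  have hlB : ∀ v < 64, D.dB.code v < 21504 := fun v hv => by rw [hD.codeB]; exact (code_facts hv).2.2.2
  have hmB : patt e = D.dB.pat := hm.trans hD.samePat.symm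
  have hfA : ∀ v, (HeldTri.sideDataA e he ht).f v = incl e (el (D.dA.code v)) := fun _ => by rw [hD.codeA]; rfl
  have hfB : ∀ v, (HeldTri.sideDataB e he ht).f v = incl e (el (D.dB.code v)) := fun _ => by rw [hD.codeB]; rfl
  set FA := mkFrame e he (HeldTri.sideDataA e he ht) hfA hlA hD.validA with hFA
  set FB := mkFrame e he (HeldTri.sideDataB e he ht) hfB hlB hD.validB with hFB
  have fA : ∀ v, FA.f v = incl e (el (aCode v)) := fun _ => rfl
  have fB : ∀ v, FB.f v = incl e (el (bCode v)) := fun _ => rfl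
  obtain ⟨WA, hWA, hA1, hA2⟩ := exists_norm e he ht hm _ hfA hlA htrA hD.validA
  obtain ⟨WB, hWB, hB1, hB2⟩ := exists_norm e he ht hmB _ hfB hlB htrB hD.validB
  rw [← hFA] at hWA hA1 hA2
  rw [← hFB] at hWB hB1 hB2
  have entA_rep : ∀ {x : Ent}, D.dA.entOK x = true → FA.Rep WA (D.dA.entPair x) (incl e (el x.1)) :=
    fun {x} hx => rep_entry FA (incl e) hfA hlA (k_lt hD.validA) hWA hA1 hA2 hx
  have entB_rep : ∀ {W : G}, FB.Ok W D.dB.w → FB.Rep W D.dB.P1 (incl e (el D.dB.k1)) →
      FB.Rep W D.dB.P2 (incl e (el D.dB.k2)) → ∀ {x : Ent}, D.dB.entOK x = true →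
      FB.Rep W (D.dB.entPair x) (incl e (el x.1)) :=
    fun {W} hW h1 h2 {x} hx => rep_entry FB (incl e) hfB hlB (k_lt hD.validB) hW h1 h2 hx
  have hparts := hD.parts
  unfold AmData.partsOK at hparts
  rw [Bool.and_eq_true] at hparts
  obtain ⟨yA, -, hryA⟩ := exists_lift_code e he hm _ hfA hlA htrA hD.validA hWA hparts.1
  obtain ⟨yB, hyB, hryB⟩ := exists_lift_code e he hmB _ hfB hlB htrB hD.validB hWB hparts.2
  rw [← hFA] at hryA
  rw [← hFB] at hyB hryB
  -- the lift on the side of `A` induces on `B` the map of the lift on the side of `B`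
  have hB : ∀ v < 64, D.dA.entOK (D.tB.getD v (0, 0, [])) = true ∧
      FA.Rep WA (D.dA.entPair (D.tB.getD v (0, 0, []))) (FB.f v) := fun v hv => by
    have h0 := hD.actB
    unfold AmData.actBOK at h0
    have h1 := allFrom_spec h0 v (Nat.zero_le v) (by omega)
    simp only [Bool.and_eq_true] at h1
    have h2 := entA_rep h1.1.1
    rw [Nat.eq_of_beq_eq_true h1.1.2, ← fB] at h2
    exact ⟨h1.1.1, h2⟩
  have hyAB : FB.Acts yA (Frm.pg D.hPB) := fun v hv => by
    have h0 := hD.actB
    unfold AmData.actBOK at h0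
    have h1 := allFrom_spec h0 v (Nat.zero_le v) (by omega)
    simp only [Bool.and_eq_true] at h1
    have hl := Frm.rep_mul hWA.cube hryA (hB v hv).2
    rw [Nat.eq_of_beq_eq_true h1.2] at hl
    exact Frm.rep_unique hWA hl (Frm.rep_mul hWA.cube (hB _ (app_lt _ v)).2 hryA)
  obtain ⟨b, hb, hyb⟩ := FB.acts_diff hyB.1 hyAB fun _ _ => rfl
  have hc := hD.critical
  unfold AmData.critOK at hc
  simp only [Bool.and_eq_true] at hc
  obtain ⟨⟨⟨hsh, hcl⟩, hcb⟩, hcz, hb0, hb1⟩ := hc
  replace hb0 : D.gl.1 < 64 := Nat.le_of_ble_eq_true hb0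
  replace hb1 : D.gl.2 < 64 := Nat.le_of_ble_eq_true hb1
  have hb01 : b = D.gl.1 ∨ b = D.gl.2 := by
    have h := allFrom_spec hcb b (Nat.zero_le b) (by omega)
    rw [Bool.or_eq_true, Bool.or_eq_true] at h
    rcases h with h | h
    · exact h.imp Nat.eq_of_beq_eq_true Nat.eq_of_beq_eq_true
    · exfalso
      obtain ⟨l, hl, hno⟩ := listAny_spec h
      have hll := listAll_spec hcl l hl
      rw [Bool.and_eq_true] at hll
      let u : ℕ → G := fun i => if i = D.shA.length then yB else incl e (el (D.shA.getD i (0, 0, [])).1)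
      have hshared : ∀ i < D.shA.length, D.dA.entOK (D.shA.getD i (0, 0, [])) = true ∧
          D.dB.entOK (D.shB.getD i (0, 0, [])) = true ∧
          (D.shA.getD i (0, 0, [])).1 = (D.shB.getD i (0, 0, [])).1 := fun i hi => by
        have h3 := allFrom_spec hsh i (Nat.zero_le i) (by omega)
        simp only [Bool.and_eq_true] at h3
        exact ⟨h3.1, h3.2.1, Nat.eq_of_beq_eq_true h3.2.2⟩
      have hlt : ∀ i ∈ l, i = D.shA.length ∨ i < D.shA.length := fun i hi => by
        have h3 := Nat.le_of_ble_eq_true (listAll_spec hll.1 i hi)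
        omega
      have hA : FA.Rep WA (Frm.wcode (D.critA b) l) (ev u l) := Frm.rep_ev hWA.cube _ _ fun i hi => by
        rcases hlt i hi with rfl | hi'
        · simp only [u, AmData.critA, if_true, Nat.beq_refl]
          rw [hyb]
          exact Frm.rep_mul hWA.cube hryA (hB b hb).2
        · simp only [u, AmData.critA, if_neg hi'.ne,
            Bool.eq_false_iff.2 fun h => hi'.ne (Nat.eq_of_beq_eq_true h)]
          exact entA_rep (hshared i hi').1
      have hB' : FB.Rep WB (Frm.wcode D.critB l) (ev u l) := Frm.rep_ev hWB.cube _ _ fun i hi => by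
        rcases hlt i hi with rfl | hi'
        · simp only [u, AmData.critB, if_true, Nat.beq_refl]
          exact hryB
        · simp only [u, AmData.critB, if_neg hi'.ne,
            Bool.eq_false_iff.2 fun h => hi'.ne (Nat.eq_of_beq_eq_true h)]
          rw [(hshared i hi').2.2]
          exact entB_rep hWB hB1 hB2 (hshared i hi').2.1
      rw [Nat.eq_of_beq_eq_true hll.2] at hB'
      rw [Frm.rep_unique hWB hB' Frm.rep_one] at hA
      exact Frm.not_rep_one_of_notOne hWA hno hA
  -- adjust by the central involution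
  obtain ⟨W', hW', h1', h2', hy'⟩ : ∃ W' : G, FB.Ok W' D.dB.w ∧ FB.Rep W' D.dB.P1 (incl e (el D.dB.k1)) ∧
      FB.Rep W' D.dB.P2 (incl e (el D.dB.k2)) ∧ FB.Rep W' D.hPB (yA * FB.f D.gl.1) := by
    rcases hb01 with rfl | rfl
    · exact ⟨WB, hWB, hB1, hB2, by rw [← hyb]; exact hryB⟩
    · have h4 : (4 : ℕ) < 64 := by norm_num
      have hzf : FB.f 4 = t := by rw [fB, side_special.2.2.2, incl_z e he]
      have hfix : ∀ k < 21504, FB.f 4 * incl e (el k) * (FB.f 4)⁻¹ = incl e (el k) := fun k hk => by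
        rw [fB, side_special.2.2.2, ← map_mul, ← z_central, map_mul, mul_assoc, mul_inv_cancel, mul_one]
      have k1 := Frm.rep_conj (pa_of_liftOK hD.validB.lift1) h4 hB1
      have k2 := Frm.rep_conj (pa_of_liftOK hD.validB.lift2) h4 hB2
      rw [hfix _ (k_lt hD.validB).1] at k1
      rw [hfix _ (k_lt hD.validB).2] at k2
      refine ⟨_, Frm.ok_conj hWB h4, k1, k2, ?_⟩
      have hzA : FA.Rep WA (Frm.pk D.dA.z 0 idG) t := by
        have h2 : FA.f D.dA.z = t := by rw [fA, ← hD.codeA, hD.validA.zcode, incl_z e he]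
        rw [← h2]
        exact Frm.rep_f hD.validA.zlt
      have hl := Frm.rep_mul hWA.cube hzA (Frm.rep_mul hWA.cube (Frm.rep_mul hWA.cube hryA (hB _ hb).2) hzA)
      rw [Nat.eq_of_beq_eq_true hcz] at hl
      have heq := Frm.rep_unique hWA hl (Frm.rep_mul hWA.cube hryA (hB _ hb0).2)
      have hy2 := Frm.rep_conj (pa_of_liftOK hparts.2) h4 hryB
      rw [hyb, FB.f_inv h4, hzf] at hy2
      rw [show t * (yA * FB.f D.gl.2) * t = yA * FB.f D.gl.1 by rw [mul_assoc]; exact heq] at hy2
      rw [FB.f_inv h4, hzf]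
      exact hy2
  -- the letters
  have hl := hD.letters
  unfold AmData.lettersOK at hl
  simp only [Bool.and_eq_true] at hl
  obtain ⟨⟨⟨⟨hla, hlb⟩, hsB⟩, hsc⟩, hsh'⟩ := hl
  replace hsh' : D.hSh < 64 := Nat.le_of_ble_eq_true hsh'
  set h : G := FA.f D.hSh * yA with hh
  let g : ℕ → G := fun i => if i < 6 then incl e (el (gensC.getD i 0)) else if i = 6 then h else 1
  have hgA : FA.Rep WA D.hCodeA h := Frm.rep_mul hWA.cube (Frm.rep_f hsh') hryA
  have hgB : FB.Rep W' D.hCodeB h := by
    have h5 := Frm.rep_mul hW'.cube (entB_rep hW' h1' h2' hsB)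
      (Frm.rep_mul hW'.cube hy' (Frm.rep_f (F := FB) (W := W') hb0))
    rw [Nat.eq_of_beq_eq_true hsc, ← fA, mul_assoc yA, FB.xor _ hb0 _ hb0, Nat.xor_self, FB.f_zero, mul_one] at h5
    exact h5
  have hC : ∀ i < 6, g i = incl e (el (gensC.getD i 0)) := fun i hi => if_pos hi
  have hg6 : g 6 = h := rfl
  have hrA : ∀ i, i < 7 → i ≠ 4 → FA.Rep WA (D.pairA i) (g i) := fun i hi h4 => by
    rcases lt_or_eq_of_le (Nat.le_of_lt_succ hi) with hi6 | rfl
    · have h3 := listAll_spec hla i (by interval_cases i <;> simp_all)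
      rw [Bool.and_eq_true] at h3
      have h5 := entA_rep h3.1
      rw [Nat.eq_of_beq_eq_true h3.2, ← hC i hi6] at h5
      unfold AmData.pairA
      rw [show Nat.beq i 6 = false by interval_cases i <;> rfl]
      exact h5
    · exact hgA
  have hrB : ∀ i, i < 7 → i ≠ 2 → FB.Rep W' (D.pairB i) (g i) := fun i hi h4 => by
    rcases lt_or_eq_of_le (Nat.le_of_lt_succ hi) with hi6 | rfl
    · have h3 := listAll_spec hlb i (by interval_cases i <;> simp_all)
      rw [Bool.and_eq_true] at h3
      have h5 := entB_rep hW' h1' h2' h3.1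
      rw [Nat.eq_of_beq_eq_true h3.2, ← hC i hi6] at h5
      unfold AmData.pairB
      rw [show Nat.beq i 6 = false by interval_cases i <;> rfl]
      exact h5
    · exact hgB
  refine ⟨g, ⟨fun x => ?_, fun x hx => ?_, fun r hr => ?_⟩, ?_, fun hgen => ?_⟩
  · by_cases hx : x < 6
    · rw [hC x hx, ← map_mul, (el_gen (gensC_facts x hx)).2.2.1, map_one]
    · by_cases hx6 : x = 6
      · subst hx6
        have h5 := Frm.rep_mul hWA.cube hgA hgA
        rw [hD.sq] at h5
        exact Frm.rep_unique hWA h5 Frm.rep_one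
      · simp [g, hx, hx6]
  · have h7 : ¬ x < 6 := by omega
    have h6 : x ≠ 6 := by omega
    simp [g, h7, h6]
  · have h0 := listAll_spec hD.relators r hr
    unfold AmData.relAt at h0
    simp only [Bool.and_eq_true, Bool.or_eq_true] at h0
    obtain ⟨hr1, hcases⟩ := h0
    rw [Nat.eq_of_beq_eq_true hr1, pow_one]
    rcases hcases with (⟨hl, hv⟩ | ⟨hl, hv⟩) | ⟨hl, hv⟩
    · have hl6 : ∀ i ∈ r.1, i < 6 := fun i hi => Nat.le_of_ble_eq_true (listAll_spec hl i hi)
      have hlt : ∀ i ∈ r.1, gensC.getD i 0 < 21504 := fun i hi => (el_gen (gensC_facts i (hl6 i hi))).1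
      rw [ev_congr (g' := fun i => incl e (el (gensC.getD i 0))) fun i hi => hC i (hl6 i hi),
        ← map_evC (incl e) (c := fun i => gensC.getD i 0) hlt, Nat.eq_of_beq_eq_true hv, el_zero, map_one]
    · have hl7 : ∀ i ∈ r.1, i < 7 ∧ i ≠ 4 := fun i hi => by
        have h9 := listAll_spec hl i hi
        rw [Bool.and_eq_true] at h9
        refine ⟨Nat.le_of_ble_eq_true h9.1, fun h4 => ?_⟩
        rw [h4] at h9
        exact Bool.false_ne_true h9.2
      have hR := Frm.rep_ev hWA.cube g D.pairA fun i hi => hrA i (hl7 i hi).1 (hl7 i hi).2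
      rw [Nat.eq_of_beq_eq_true hv] at hR
      exact Frm.rep_unique hWA hR Frm.rep_one
    · have hl7 : ∀ i ∈ r.1, i < 7 ∧ i ≠ 2 := fun i hi => by
        have h9 := listAll_spec hl i hi
        rw [Bool.and_eq_true] at h9
        refine ⟨Nat.le_of_ble_eq_true h9.1, fun h4 => ?_⟩
        rw [h4] at h9
        exact Bool.false_ne_true h9.2
      have hR := Frm.rep_ev hW'.cube g D.pairB fun i hi => hrB i (hl7 i hi).1 (hl7 i hi).2
      rw [Nat.eq_of_beq_eq_true hv] at hR
      exact Frm.rep_unique hW' hR Frm.rep_one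
  · rw [hC 0 (by norm_num), ← (incl e).map_one, ← el_zero]
    exact fun h => absurd (el_inj (by norm_num [gensC]) (by norm_num) (incl_injective e h)) (by decide)
  · have hCle : centralizer ({t} : Set G) ≤ closure (Set.range g) := fun x hx => by
      obtain ⟨y, rfl⟩ := exists_incl e hx
      refine induction_gen (P := fun y => incl e y ∈ closure (Set.range g)) (by simp) ?_ ?_ y
      · intro a b ha hb
        rw [map_mul]
        exact mul_mem ha hb
      · intro c hc
        obtain ⟨i, hi, rfl⟩ := gensC_index c hc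
        exact subset_closure ⟨i, hC i hi⟩
    have hzA : FA.f D.dA.z = t := by rw [fA, ← hD.codeA, hD.validA.zcode, incl_z e he]
    have hzB : FB.f D.dB.z = t := by rw [fB, ← hD.codeB, hD.validB.zcode, incl_z e he]
    have hNA := normalizer_le_of_orbit hzA D.pairA 4 D.orbA g hrA hWA.cube hD.orbitA (sideA e) (fun n hn => by
      have htA : t ∈ sideA e := (HeldTri.sideDataA e he ht).zmem
      obtain ⟨v, hv, hfv⟩ := (HeldTri.sideDataA e he ht).f_surj _ ((Subgroup.mem_set_normalizer_iff.1 hn t).1 htA)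
      have hcj : IsConj t ((HeldTri.sideDataA e he ht).f v) := by rw [hfv]; exact isConj_iff.2 ⟨n, rfl⟩
      exact ⟨v, hv, hfv, (mask_iff e hm _ hD.validA hv).1 hcj⟩) hCle hD.validA.zlt
    have hNB := normalizer_le_of_orbit hzB D.pairB 2 D.orbB g hrB hW'.cube hD.orbitB (sideB e) (fun n hn => by
      have htB : t ∈ sideB e := (HeldTri.sideDataB e he ht).zmem
      obtain ⟨v, hv, hfv⟩ := (HeldTri.sideDataB e he ht).f_surj _ ((Subgroup.mem_set_normalizer_iff.1 hn t).1 htB)
      have hcj : IsConj t ((HeldTri.sideDataB e he ht).f v) := by rw [hfv]; exact isConj_iff.2 ⟨n, rfl⟩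
      exact ⟨v, hv, hfv, (mask_iff e hmB _ hD.validB hv).1 hcj⟩) hCle hD.validB.zlt
    refine top_le_iff.1 ?_
    rw [← hgen]
    exact sup_le (sup_le hCle hNA) hNB

end CfsgLib.Spor.HeldRecog.Amalgam
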