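import Cfsg.Agent.Lib.Spor.HeldRecog.Amalgam.Norm

/-!
Data for the two normalisers and their common part, found by a computer search.
-/

set_option autoImplicit false

namespace CfsgLib.Spor.HeldRecog.Amalgam

/-- The maps fixing the central point, each with a code inducing it. -/
def stabA : List (ℕ × ℕ) :=
  [(34630287489, 0), (36794548353, 17), (43287330945, 10817), (45451591809, 10832), (34630815873, 126), (36795076737, 47), (43287859329, 10798), (45452120193, 10879), (8665497729, 13127), (10829758593, 13177), (43293671553, 3457), (45457932417, 3519), (8666026113, 13078), (10830286977, 13160), (43294199937, 3566), (45458460801, 3472), (8667611265, 4999), (10831872129, 5032), (34638741633, 21312), (36803002497, 21359), (8668139649, 5078), (10832400513, 5049), (34639270017, 21310), (36803530881, 21329), (35167191171, 5), (37365006467, 20), (43958452355, 10820), (46156267651, 10837), (35167727747, 123), (37365543043, 42), (43958988931,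 10795), (46156804227, 10874), (8799846531, 13122), (10997661827, 13180), (43964891267, 3460), (46162706563, 3514), (8800383107, 13075), (10998198403, 13165), (43965427843, 3563), (46163243139, 3477), (8801992835, 4994), (10999808131, 5037), (35175776387, 21317), (37373591683, 21354), (8802529411, 5075), (11000344707, 5052), (35176312963, 21307), (37374128259, 21332)]

/-- Witnesses against the three other classes of complements. -/
def witA : List Wit :=
  [⟨0, [1], [0, 1, 0, 0, 1, 0], 6515803619840⟩, ⟨0, [1], [0, 1, 0, 0, 1, 0], 6515803619840⟩, ⟨1, [1], [1], 2267881152832⟩]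

/-- The data of the side `A`. -/
def dataA : SideData :=
  ⟨HeldFusion.aCode, 2, 11527515158128858430, 52079657154, stabA, 3460, 10832, 5627506082240, 5817803751552, [[0, 0, 0, 0, 0, 0], [1, 1], [0, 0, 0, 1, 0, 0, 0, 1]], witA, 107⟩

/-- The maps fixing the central point, each with a code inducing it. -/
def stabB : List (ℕ × ℕ) :=
  [(34630287489, 0), (38959071361, 8), (34764505281, 10304), (39110066369, 10312), (35167158657, 98), (39563051393, 106), (35301376449, 10274), (39714046401, 10282), (34498166850, 1856), (38810435650, 1864), (34766602434, 17792), (39112425666, 17800), (35035038018, 1846), (39414415682, 1854), (35303473602, 17910), (39716405698, 17918), (34500264003, 12544), (38812794947, 12552), (34634481795, 19264), (38963789955, 19272), (35037135171, 12628), (39416774979, 12636), (35171352963, 19220), (39567769987, 19228), (34638676101, 118), (38968508549, 126), (34772893893, 10260), (39119503557, 10268), (35175547269, 84),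 (39572488581, 92), (35309765061, 10294), (39723483589, 10302), (34506555462, 1826), (38819872838, 1834), (34774991046, 17876), (39121862854, 17884), (35043426630, 1812), (39423852870, 1820), (35311862214, 17890), (39725842886, 17898), (34508652615, 12642), (38822232135, 12650), (34642870407, 19254), (38973227143, 19262), (35045523783, 12662), (39426212167, 12670), (35179741575, 19234), (39577207175, 19242)]

/-- Witnesses against the three other classes of complements. -/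
def witB : List Wit :=
  [⟨1, [1], [1], 554101244992⟩, ⟨0, [1], [0, 1, 0, 0, 1, 0], 5551516369024⟩, ⟨0, [1], [0, 1, 0, 0, 1, 0], 5551516369024⟩]

/-- The data of the side `B`. -/
def dataB : SideData :=
  ⟨HeldFusion.bCode, 4, 16711711501432377342, 38959186952, stabB, 17800, 10274, 5006390485312, 4518576185472, [[0, 0, 0, 0, 0, 0], [1, 1], [0, 0, 0, 1, 0, 0, 0, 1]], witB, 107⟩

/-- Codes of the letters normalising `A`: translation and word. -/
def lettersA : List (ℕ × ℕ × List ℕ) :=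
  [(56, 34, [1, 0, 1, 0]), (128, 14, [0, 1, 0, 0, 1, 0, 1]), (21248, 2, [0, 1, 0, 1, 0, 0, 1]), (19200, 16, []), (3, 32, [0, 0, 0])]

/-- Codes of the letters normalising `B`: translation and word. -/
def lettersB : List (ℕ × ℕ × List ℕ) :=
  [(56, 2, [0, 0, 0]), (128, 8, []), (19200, 4, [0, 1, 0, 1, 0, 0, 1]), (8960, 12, [0, 1, 0, 0, 1, 0, 1]), (3, 37, [0, 1, 0, 0, 1, 0])]

/-- The elements of `B` as elements of the normaliser of `A`. -/
def tableB : List (ℕ × ℕ × List ℕ) :=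
  [(0, 0, []), (32, 9, [0, 1, 0, 0, 1, 0]), (48, 1, []), (16, 8, [0, 1, 0, 0, 1, 0]), (64, 2, []), (96, 11, [0, 1, 0, 0, 1, 0]), (112, 3, []), (80, 10, [0, 1, 0, 0, 1, 0]), (128, 14, [0, 1, 0, 0, 1, 0, 1]), (160, 7, [1]), (176, 15, [0, 1, 0, 0, 1, 0, 1]), (144, 6, [1]), (192, 12, [0, 1, 0, 0, 1, 0, 1]), (224, 5, [1]), (240, 13, [0, 1, 0, 0, 1, 0, 1]), (208, 4, [1]), (9472, 4, []), (9504, 13, [0, 1, 0, 0, 1, 0]), (9520, 5, []), (9488, 12, [0, 1, 0, 0, 1, 0]), (9536, 6, []), (9568, 15, [0, 1, 0, 0, 1, 0]), (9584, 7, []), (9552, 14, [0, 1, 0, 0, 1, 0]), (10752, 10, [0, 1, 0, 0, 1, 0, 1]), (10784, 3, [1]), (10800, 11, [0, 1, 0, 0, 1, 0, 1]), (10768, 2, [1]), (10816, 8, [0, 1, 0, 0, 1, 0, 1]), (10848, 1, [1]), (10864, 9, [0, 1, 0, 0, 1, 0, 1]), (10832, 0, [1]), (1, 8, []), (33, 1, [0, 1, 0, 0, 1, 0]), (49, 9, []), (17, 0, [0, 1, 0, 0, 1, 0]), (65, 10, []), (97, 3, [0, 1, 0, 0, 1, 0]), (113, 11, []), (81, 2, [0, 1, 0, 0, 1, 0]), (129, 6, [0, 1,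 0, 0, 1, 0, 1]), (161, 15, [1]), (177, 7, [0, 1, 0, 0, 1, 0, 1]), (145, 14, [1]), (193, 4, [0, 1, 0, 0, 1, 0, 1]), (225, 13, [1]), (241, 5, [0, 1, 0, 0, 1, 0, 1]), (209, 12, [1]), (9473, 12, []), (9505, 5, [0, 1, 0, 0, 1, 0]), (9521, 13, []), (9489, 4, [0, 1, 0, 0, 1, 0]), (9537, 14, []), (9569, 7, [0, 1, 0, 0, 1, 0]), (9585, 15, []), (9553, 6, [0, 1, 0, 0, 1, 0]), (10753, 2, [0, 1, 0, 0, 1, 0, 1]), (10785, 11, [1]), (10801, 3, [0, 1, 0, 0, 1, 0, 1]), (10769, 10, [1]), (10817, 0, [0, 1, 0, 0, 1, 0, 1]), (10849, 9, [1]), (10865, 1, [0, 1, 0, 0, 1, 0, 1]), (10833, 8, [1])]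

/-- Generators of the common Sylow complement, seen from `A`. -/
def sharedA : List (ℕ × ℕ × List ℕ) :=
  [(8, 35, [1, 0, 1, 0]), (84, 2, [0, 0, 1, 0, 1, 0, 0]), (19220, 51, [0, 0, 1, 0, 1, 0, 0])]

/-- Generators of the common Sylow complement, seen from `B`. -/
def sharedB : List (ℕ × ℕ × List ℕ) :=
  [(8, 0, [0, 0, 0]), (84, 0, [0, 1, 0, 1]), (19220, 0, [0, 0, 1])]

/-- The code of the lift used for the seventh letter. -/
def hPart : ℕ :=
  4067472483648

/-- The translation of the seventh letter in `A`. -/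
def hShift : ℕ :=
  11

/-- The same translation, seen from `B`. -/
def hShiftB : ℕ × ℕ × List ℕ :=
  (113, 38, [])

/-- The code of the lift in the normaliser of `B`. -/
def hPartB : ℕ :=
  2268759102912

/-- The two possible differences of the two lifts. -/
def glueB : ℕ × ℕ :=
  (38, 48)

/-- Relators of the common part that determine the difference. -/
def crit : List (List ℕ) :=
  [[3, 3], [2, 1, 3, 2, 1, 3], [2, 3, 0, 3, 2, 3, 0, 3]]

/-- Words moving the central point over its class in `A`. -/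
def orbitWordsA : List (List ℕ) :=
  [[5, 6, 5, 6], [], [6, 5, 6], [0, 6], [6], [6, 0, 6], [0, 6, 0, 6], [5, 0, 6], [5, 6], [1, 2, 0, 6], [1, 2, 6], [2, 0, 6], [2, 6], [2, 6, 5, 2, 6], [6, 2, 6, 0, 6], [1, 2, 6, 2, 0, 6], [6, 0, 6, 2, 0, 6], [2, 6, 1, 2, 6], [5, 6, 5, 2, 0, 6], [2, 6, 2, 0, 6], [6, 0, 6, 2, 6], [1, 2, 6, 0, 6], [1, 2, 0, 6, 0, 6], [6, 2, 6], [0, 6, 2, 6], [6, 1, 2, 0, 6], [0, 6, 1, 2, 0, 6], [2, 6, 0, 6], [2, 0, 6, 0, 6], [6, 1, 2, 6], [0, 6, 2, 0, 6], [6, 2, 0, 6], [0, 6, 1, 2, 6], [5, 1, 2, 0, 6], [5, 1, 2, 6], [2, 6, 2, 6], [2, 0, 6, 2, 6], [2, 6, 1, 2, 0, 6], [6, 5, 2, 0, 6], [6, 5, 2, 6], [2, 6, 2, 6, 0, 6], [0, 6, 5, 2, 6], [6, 5, 1, 2, 0, 6], [5, 2, 0, 6], [5, 2, 6]]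

/-- Words moving the central point over its class in `B`. -/
def orbitWordsB : List (List ℕ) :=
  [[6, 3, 4, 6, 4, 6], [5, 6, 5, 6], [5, 4, 6, 5, 6], [], [6, 4, 6, 4, 6], [6, 5, 6], [4, 6, 5, 6], [3, 4, 0, 6], [3, 4, 6], [3, 5, 6, 4, 0, 6], [6, 5, 6, 4, 6], [3, 6, 3, 4, 0, 6], [5, 6, 5, 6, 4, 6], [0, 6], [5, 6, 4, 6], [6], [5, 0, 6, 4, 6], [5, 6, 3, 4, 6], [5, 6, 5, 4, 6], [4, 0, 6], [5, 4, 6, 4, 6], [5, 6, 4, 0, 6], [4, 6], [6, 4, 6, 5, 6], [6, 3, 4, 0, 6], [6, 0, 6], [0, 6, 0, 6], [3, 5, 4, 0, 6], [5, 6, 5, 4, 0, 6], [3, 4, 6, 4, 6], [3, 5, 4, 6], [6, 5, 4, 0, 6], [4, 6, 5, 4, 0, 6], [5, 0, 6], [6, 4, 6], [6, 5, 4, 6], [6, 3, 4, 6], [5, 6], [0, 6, 4, 6], [5, 4, 0, 6], [4, 6, 4, 6], [4, 6, 5, 4, 6], [4, 6, 3, 4, 6], [6, 4, 0, 6], [5, 4, 6]]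

end CfsgLib.Spor.HeldRecog.Amalgam
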