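import Cfsg.Agent.Lib.Spor.HeldRecog.Amalgam.AmData
import Cfsg.Agent.Lib.Spor.HeldRecog.Amalgam.Data
import Cfsg.Agent.Lib.Spor.HeldRecog.Enum.Rels

/-!
# The finite checks for the amalgam of the Held group
-/

set_option autoImplicit false
set_option maxRecDepth 100000

namespace CfsgLib.Spor.HeldRecog.Amalgam

open CfsgLib.Spor.TC CfsgLib.Spor.HeldFusion

/-- The amalgam of the Held group. -/
def amHe : AmData :=
  ⟨dataA, dataB, lettersA, lettersB, tableB, sharedA, sharedB, hPart, hShift, hShiftB, hPartB, glueB, crit,
    Enum.relsP, orbitWordsA, orbitWordsB⟩

theorem dataA_valid : dataA.Valid labA :=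
  ⟨by decide, by decide +kernel, by decide +kernel, by decide +kernel, by decide +kernel, by decide +kernel,
    by decide +kernel, by decide +kernel, by decide +kernel, by decide +kernel, by decide +kernel,
    by decide +kernel, by decide +kernel, by decide +kernel⟩

theorem dataB_valid : dataB.Valid labB :=
  ⟨by decide, by decide +kernel, by decide +kernel, by decide +kernel, by decide +kernel, by decide +kernel,
    by decide +kernel, by decide +kernel, by decide +kernel, by decide +kernel, by decide +kernel,
    by decide +kernel, by decide +kernel, by decide +kernel⟩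

theorem amHe_valid : amHe.Valid :=
  ⟨rfl, rfl, rfl, dataA_valid, dataB_valid, by decide +kernel, by decide +kernel, by decide +kernel,
    by decide +kernel, by decide +kernel, by decide +kernel, by decide +kernel, by decide +kernel⟩

end CfsgLib.Spor.HeldRecog.Amalgam
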