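import Cfsg.Agent.Lib.Spor.HeldRecog.Amalgam.Norm

/-!
# Elements of the centraliser as coded elements of a normaliser; conjugating a frame
-/

set_option autoImplicit false
set_option linter.unusedSectionVars false
set_option linter.style.haveILetI false
set_option maxHeartbeats 600000

namespace CfsgLib.Spor.HeldRecog.Amalgam

open CfsgLib.Spor.TC CfsgLib.Spor.HeldFusion Subgroup

namespace Frm

variable {G : Type*} [Group G] {F : Frm G} {W : G} {w : ℕ}

/-- Conjugation by a member of the subgroup keeps the frame. -/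
theorem ok_conj (hW : F.Ok W w) {d : ℕ} (hd : d < 64) : F.Ok (F.f d * W * (F.f d)⁻¹) w := by
  refine ⟨fun v hv => ?_, ?_, hW.fpf⟩
  · rw [F.f_inv hd, mul_assoc, F.f_comm hd hv, ← mul_assoc, mul_assoc _ W, hW.acts v hv,
      ← mul_assoc, F.f_comm hd (app_lt w v)]
    simp only [mul_assoc]
  · rw [conj_pow, hW.cube, mul_one, mul_inv_cancel]

/-- Lifts are carried along. -/
theorem rep_conj {p : ℕ} (hp : pa p = 0) {d : ℕ} (hd : d < 64) {x : G} (h : F.Rep W p x) :
    F.Rep (F.f d * W * (F.f d)⁻¹) p (F.f d * x * (F.f d)⁻¹) := by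
  obtain ⟨y, hy, rfl⟩ := h
  rw [hp, F.f_zero, one_mul]
  refine ⟨F.f d * y * (F.f d)⁻¹, ⟨fun v hv => ?_, ?_⟩, by rw [hp, F.f_zero, one_mul]⟩
  · rw [F.f_inv hd, mul_assoc, F.f_comm hd hv, ← mul_assoc, mul_assoc _ y, hy.1 v hv, ← mul_assoc,
      F.f_comm hd (app_lt _ v)]
    simp only [mul_assoc]
  · rw [conj_pow]
    calc _ = F.f d * (y * W) * (F.f d)⁻¹ := by group
      _ = _ := by rw [hy.2]; group

end Frm

/-- An element of the centraliser with its translation and word. -/
abbrev Ent := ℕ × ℕ × List ℕ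

/-- The entry is correct. -/
noncomputable def SideData.entOK (S : SideData) (x : Ent) : Bool :=
  Nat.blt x.1 21504 && (Nat.blt x.2.1 64 && (listAll (fun i => Nat.blt i 2) x.2.2 &&
    Nat.beq (mulC (S.code x.2.1) (evC (two S.k1 S.k2) x.2.2)) x.1))

/-- The code of an entry in the normaliser. -/
noncomputable def SideData.entPair (S : SideData) (x : Ent) : ℕ :=
  Frm.pmul (Frm.pk x.2.1 0 idG) (Frm.wcode (two S.P1 S.P2) x.2.2)

theorem rep_entry {S : SideData} {G : Type*} [Group G] (F : Frm G) (ι : Cen splitTab →* G)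
    (hf : ∀ v, F.f v = ι (el (S.code v))) (hclt : ∀ v < 64, S.code v < 21504) (hk : S.k1 < 21504 ∧ S.k2 < 21504)
    {W : G} {w : ℕ} (hW : F.Ok W w) (h1 : F.Rep W S.P1 (ι (el S.k1))) (h2 : F.Rep W S.P2 (ι (el S.k2)))
    {x : Ent} (hx : S.entOK x = true) : F.Rep W (S.entPair x) (ι (el x.1)) := by
  unfold SideData.entOK at hx
  simp only [Bool.and_eq_true] at hx
  obtain ⟨-, ha, hl, heq⟩ := hx
  have hl' : ∀ i ∈ x.2.2, i < 2 := fun i hi => Nat.le_of_ble_eq_true (listAll_spec hl i hi)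
  have ha' : x.2.1 < 64 := Nat.le_of_ble_eq_true ha
  have hlt : ∀ i ∈ x.2.2, two S.k1 S.k2 i < 21504 := fun i hi => by
    have := hl' i hi
    interval_cases i
    · exact hk.1
    · exact hk.2
  have hw : F.Rep W (Frm.wcode (two S.P1 S.P2) x.2.2) (ι (el (evC (two S.k1 S.k2) x.2.2))) := by
    rw [map_evC ι hlt]
    refine Frm.rep_ev hW.cube _ _ fun i hi => ?_
    have := hl' i hi
    interval_cases i
    · exact h1
    · exact h2
  have h := Frm.rep_mul hW.cube (Frm.rep_f (F := F) (W := W) ha') hw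
  rw [hf, ← map_mul, ← el_mul (hclt _ ha') (evC_lt hlt), Nat.eq_of_beq_eq_true heq] at h
  exact h

theorem entry_lt {S : SideData} {x : Ent} (hx : S.entOK x = true) : x.1 < 21504 := by
  unfold SideData.entOK at hx
  rw [Bool.and_eq_true] at hx
  exact Nat.le_of_ble_eq_true hx.1

end CfsgLib.Spor.HeldRecog.Amalgam
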