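import Cfsg.Agent.Lib.Spor.HeldRecog.Amalgam.Amal
import Cfsg.Agent.Lib.Spor.HeldRecog.Amalgam.Checks

/-!
# The seven involutions in a group of Held type
-/

set_option autoImplicit false
set_option linter.unusedSectionVars false
set_option linter.style.haveILetI false

namespace CfsgLib.Spor.HeldRecog.Amalgam

open CfsgLib.Spor.TC CfsgLib.Spor.HeldFusion Subgroup

variable {G : Type*} [Group G] [Finite G] {t : G}

/-- **The seven involutions satisfy the relators of the amalgam.** -/
theorem exists_letters (e : Cen splitTab ≃* centralizer ({t} : Set G))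
    (he : ((e ⟨64, by norm_num⟩ : _) : G) = t) (ht : orderOf t = 2) (hm : patt e = 107) :
    ∃ g : ℕ → G, Sat 7 Enum.relsP g ∧ g 0 ≠ 1 := by
  obtain ⟨g, h1, h2, -⟩ := exists_letters_of_data amHe_valid e he ht hm
  exact ⟨g, h1, h2⟩

end CfsgLib.Spor.HeldRecog.Amalgam
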