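import Cfsg.Agent.Lib.Spor.HeldRecog.Amalgam.Perm
import Cfsg.Agent.Lib.Spor.TC.Word
import Mathlib.Tactic.Group

/-!
# An elementary subgroup of order 64 with a fixed-point-free element of order three

Elements normalising the element of order three give a complement: an element inducing a given linear map
and normalising it is unique. So products in the normaliser are computed on codes.
-/

set_option autoImplicit false

namespace CfsgLib.Spor.HeldRecog.Amalgam

open CfsgLib.Spor.TC

variable {G : Type*} [Group G]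

/-- An elementary subgroup in six bit coordinates that is its own centraliser. -/
structure Frm (G : Type*) [Group G] where
  f : ℕ → G
  xor : ∀ v < 64, ∀ u < 64, f v * f u = f (v ^^^ u)
  inj : ∀ v < 64, ∀ u < 64, f v = f u → v = u
  self : ∀ x : G, (∀ v < 64, x * f v = f v * x) → ∃ a < 64, x = f a

namespace Frm

variable (F : Frm G)

theorem f_zero : F.f 0 = 1 := by
  have h := F.xor 0 (by norm_num) 0 (by norm_num)
  rw [Nat.xor_self] at h
  exact mul_left_cancel (h.trans (mul_one _).symm)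

theorem f_inv {v : ℕ} (hv : v < 64) : (F.f v)⁻¹ = F.f v :=
  inv_eq_of_mul_eq_one_right (by rw [F.xor v hv v hv, Nat.xor_self, f_zero])

theorem f_comm {v u : ℕ} (hv : v < 64) (hu : u < 64) : F.f v * F.f u = F.f u * F.f v := by
  rw [F.xor v hv u hu, F.xor u hu v hv, Nat.xor_comm]

/-- `x` induces the linear map `g`. -/
def Acts (x : G) (g : ℕ) : Prop := ∀ v < 64, x * F.f v = F.f (app g v) * x

theorem acts_mul {x y : G} {g g' : ℕ} (hx : F.Acts x g) (hy : F.Acts y g') : F.Acts (x * y) (cmp g g') :=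
  fun v hv => by rw [mul_assoc, hy v hv, ← mul_assoc, hx _ (app_lt g' v), app_cmp, mul_assoc]

theorem acts_one : F.Acts 1 idG := fun v hv => by rw [app_id hv, one_mul, mul_one]

theorem acts_f {a : ℕ} (ha : a < 64) : F.Acts (F.f a) idG := fun v hv => by rw [app_id hv, F.f_comm ha hv]

theorem acts_conj {x : G} {g : ℕ} (hx : F.Acts x g) {v : ℕ} (hv : v < 64) : x * F.f v * x⁻¹ = F.f (app g v) := by
  rw [hx v hv, mul_assoc, mul_inv_cancel, mul_one]

/-- Two elements inducing the same map differ by the subgroup. -/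
theorem acts_diff {x y : G} {g g' : ℕ} (hx : F.Acts x g) (hy : F.Acts y g') (h : ∀ v < 64, app g v = app g' v) :
    ∃ c < 64, x = y * F.f c := by
  obtain ⟨c, hc, he⟩ := F.self (y⁻¹ * x) fun v hv => by
    rw [mul_assoc, hx v hv, h v hv, ← mul_assoc, ← mul_assoc,
      show y⁻¹ * F.f (app g' v) = F.f v * y⁻¹ by
        rw [eq_mul_inv_iff_mul_eq, mul_assoc, ← hy v hv, inv_mul_cancel_left]]
  exact ⟨c, hc, by rw [← he, mul_inv_cancel_left]⟩

variable (W : G) (w : ℕ)

/-- The exponent of a sign. -/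
def ex (s : ℕ) : ℕ := if s = 0 then 1 else 2

/-- `W` is an element of order three inducing the fixed-point-free map `w`. -/
structure Ok : Prop where
  acts : F.Acts W w
  cube : W ^ 3 = 1
  fpf : ∀ a < 64, app w a = a → a = 0

/-- `y` induces `g` and conjugates `W` to `W` or its inverse. -/
def Lift (g s : ℕ) (y : G) : Prop := F.Acts y g ∧ y * W = W ^ ex s * y

variable {F W w}

theorem Lift.mul {g g' s s' : ℕ} {y y' : G} (hW : W ^ 3 = 1) (h : F.Lift W g s y) (h' : F.Lift W g' s' y')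
    (hs : s < 2) (hs' : s' < 2) : F.Lift W (cmp g g') (Nat.xor s s') (y * y') := by
  refine ⟨F.acts_mul h.1 h'.1, ?_⟩
  have hp : ∀ k : ℕ, y * W ^ k = (W ^ ex s) ^ k * y := fun k => by
    induction k with
    | zero => simp
    | succ k ih => rw [pow_succ, ← mul_assoc, ih, mul_assoc, h.2, pow_succ, ← mul_assoc]
  rw [mul_assoc, h'.2, ← mul_assoc, hp, ← pow_mul, mul_assoc]
  congr 1
  have h4 : W ^ 4 = W ^ 1 := by rw [show 4 = 1 + 3 by norm_num, pow_add, hW, mul_one]
  show W ^ (ex s * ex s') = W ^ ex (s ^^^ s')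
  interval_cases s <;> interval_cases s'
  · rfl
  · rfl
  · rfl
  · exact h4

theorem lift_unique (hO : F.Ok W w) {g g' s : ℕ} {y y' : G} (h : F.Lift W g s y) (h' : F.Lift W g' s y')
    (hg : ∀ v < 64, app g v = app g' v) : y = y' := by
  obtain ⟨c, hc, hy⟩ := F.acts_diff h.1 h'.1 hg
  have h1 := h.2
  rw [hy] at h1
  have h2 : F.f c * W = W * F.f c := by
    refine mul_left_cancel (a := y') ?_
    rw [← mul_assoc, ← mul_assoc, h1, ← mul_assoc, h'.2]
  have h3 : F.f c = F.f (app w c) := mul_right_cancel (h2.trans (hO.acts c hc))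
  have h4 := hO.fpf c hc (F.inj _ (app_lt w c) _ hc h3.symm)
  rw [hy, h4, F.f_zero, mul_one]

theorem lift_one : F.Lift W idG 0 1 := ⟨F.acts_one, by simp [ex]⟩

/-- The linear map inducing the power `ex s` of `W`. -/
noncomputable def wpow (w s : ℕ) : ℕ := Bool.rec (cmp w w) w (Nat.beq s 0)

/-- An element inducing `g` can be corrected to a lift, when `g` conjugates `w` properly. -/
theorem exists_lift (hO : F.Ok W w) {g s : ℕ} {x : G} (hx : F.Acts x g) (hs : s < 2)
    (hgw : ∀ v < 64, app (cmp g w) v = app (cmp (wpow w s) g) v)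
    (hsurj : ∀ a < 64, ∃ b < 64, b ^^^ app (wpow w s) b = a) : ∃ y, F.Lift W g s y := by
  have hWs : F.Acts (W ^ ex s) (wpow w s) := by
    interval_cases s
    · show F.Acts (W ^ 1) w
      rw [pow_one]; exact hO.acts
    · show F.Acts (W ^ 2) (cmp w w)
      rw [pow_two]; exact F.acts_mul hO.acts hO.acts
  obtain ⟨c, hc, he⟩ := F.acts_diff (F.acts_mul hx hO.acts) (F.acts_mul hWs hx) hgw
  -- x W = W' x f(c), so x W x⁻¹ = W' f(g c)
  have h1 : x * W = W ^ ex s * F.f (app g c) * x := by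
    rw [he, mul_assoc, mul_assoc, ← hx c hc]
  obtain ⟨b, hb, hba⟩ := hsurj _ (app_lt (wpow w s) (app g c))
  refine ⟨F.f b * x, fun v hv => ?_, ?_⟩
  · rw [mul_assoc, hx v hv, ← mul_assoc, F.f_comm hb (app_lt g v), mul_assoc]
  · rw [mul_assoc, h1, show W ^ ex s * F.f (app g c) = F.f (app (wpow w s) (app g c)) * W ^ ex s from
      hWs _ (app_lt g c), ← mul_assoc, ← mul_assoc, ← mul_assoc (W ^ ex s), hWs b hb,
      F.xor b hb _ (app_lt _ _), ← hba, ← Nat.xor_assoc, Nat.xor_self, Nat.zero_xor]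

/-! ### Codes of elements of the normaliser -/

/-- The translation part. -/
noncomputable def pa (p : ℕ) : ℕ := Nat.land p 63
/-- The sign part. -/
noncomputable def ps (p : ℕ) : ℕ := Nat.land (Nat.shiftRight p 6) 1
/-- The linear part. -/
noncomputable def pg (p : ℕ) : ℕ := Nat.shiftRight p 7
/-- The code of a triple. -/
noncomputable def pk (a s g : ℕ) : ℕ := Nat.add a (Nat.add (Nat.shiftLeft s 6) (Nat.shiftLeft g 7))

theorem pk_parts {a s g : ℕ} (ha : a < 64) (hs : s < 2) :
    pa (pk a s g) = a ∧ ps (pk a s g) = s ∧ pg (pk a s g) = g := by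
  show (a + (s <<< 6 + g <<< 7)) &&& 63 = a ∧ ((a + (s <<< 6 + g <<< 7)) >>> 6) &&& 1 = s ∧
    (a + (s <<< 6 + g <<< 7)) >>> 7 = g
  simp only [Nat.shiftLeft_eq, Nat.shiftRight_eq_div_pow, show (63 : ℕ) = 2 ^ 6 - 1 by norm_num,
    Nat.and_two_pow_sub_one_eq_mod, Nat.and_one_is_mod]
  norm_num
  omega

theorem pa_lt (p : ℕ) : pa p < 64 := Nat.lt_succ_of_le Nat.and_le_right
theorem ps_lt (p : ℕ) : ps p < 2 := Nat.lt_succ_of_le Nat.and_le_right

/-- The product of two codes. -/
noncomputable def pmul (p q : ℕ) : ℕ :=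
  pk (Nat.xor (pa p) (app (pg p) (pa q))) (Nat.xor (ps p) (ps q)) (cmp (pg p) (pg q))

/-- The code of the identity. -/
noncomputable def pone : ℕ := pk 0 0 idG

variable (F W)

/-- `x` has code `p`. -/
def Rep (p : ℕ) (x : G) : Prop := ∃ y, F.Lift W (pg p) (ps p) y ∧ x = F.f (pa p) * y

variable {F W}

theorem rep_pk {a s g : ℕ} {y : G} (ha : a < 64) (hs : s < 2) (hy : F.Lift W g s y) :
    F.Rep W (pk a s g) (F.f a * y) := by
  obtain ⟨h1, h2, h3⟩ := pk_parts (g := g) ha hs
  exact ⟨y, by rw [h2, h3]; exact hy, by rw [h1]⟩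

theorem rep_mul (hW : W ^ 3 = 1) {p q : ℕ} {x x' : G} (h : F.Rep W p x) (h' : F.Rep W q x') :
    F.Rep W (pmul p q) (x * x') := by
  obtain ⟨y, hy, rfl⟩ := h
  obtain ⟨y', hy', rfl⟩ := h'
  rw [show F.f (pa p) * y * (F.f (pa q) * y') = F.f (pa p) * (y * F.f (pa q)) * y' by group,
    hy.1 _ (pa_lt q), ← mul_assoc, F.xor _ (pa_lt p) _ (app_lt _ _), mul_assoc]
  exact rep_pk (Nat.xor_lt_two_pow (n := 6) (pa_lt p) (app_lt _ _))
    (Nat.xor_lt_two_pow (n := 1) (ps_lt p) (ps_lt q)) (hy.mul hW hy' (ps_lt p) (ps_lt q))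

theorem rep_one : F.Rep W pone 1 := by
  have h := rep_pk (a := 0) (s := 0) (by norm_num) (by norm_num) (F := F) (W := W) lift_one
  rwa [F.f_zero, one_mul] at h

theorem rep_unique (hO : F.Ok W w) {p : ℕ} {x x' : G} (h : F.Rep W p x) (h' : F.Rep W p x') : x = x' := by
  obtain ⟨y, hy, rfl⟩ := h
  obtain ⟨y', hy', rfl⟩ := h'
  rw [lift_unique hO hy hy' fun _ _ => rfl]

theorem rep_f {a : ℕ} (ha : a < 64) : F.Rep W (pk a 0 idG) (F.f a) := by
  have h := rep_pk (s := 0) ha (by norm_num) (F := F) (W := W) lift_one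
  rwa [mul_one] at h

/-- The code of a product over a word. -/
noncomputable def wcode (E : ℕ → ℕ) (l : List ℕ) : ℕ :=
  List.rec (motive := fun _ => ℕ) pone (fun i _ ih => pmul (E i) ih) l

theorem rep_ev (hW : W ^ 3 = 1) (g : ℕ → G) (E : ℕ → ℕ) {l : List ℕ} (h : ∀ i ∈ l, F.Rep W (E i) (g i)) :
    F.Rep W (wcode E l) (ev g l) := by
  induction l with
  | nil => exact rep_one
  | cons a l ih =>
    rw [ev_cons]
    exact rep_mul hW (h a List.mem_cons_self) (ih fun i hi => h i (List.mem_cons_of_mem _ hi))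

/-- The code is visibly not that of the identity. -/
noncomputable def notOne (p : ℕ) : Bool :=
  Bool.rec true (Nat.beq (ps p) 0 && Bool.rec true false (Nat.beq (pa p) 0)) (Nat.beq (pg p) idG) &&
    Bool.rec (Bool.rec true false (Nat.beq (cmp (pg p) idG) idG)) true (Nat.beq (pg p) idG)

theorem not_rep_one_of_notOne (hO : F.Ok W w) {p : ℕ} (h : notOne p = true) : ¬ F.Rep W p 1 := by
  intro hp
  obtain ⟨y, hy, he⟩ := hp
  have hy' : y = F.f (pa p) := by
    rw [← F.f_inv (pa_lt p)]
    exact eq_inv_of_mul_eq_one_right he.symm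
  have hact : ∀ v < 64, app (pg p) v = v := fun v hv => by
    refine F.inj _ (app_lt _ v) _ hv ?_
    rw [← F.acts_conj hy.1 hv, hy', F.f_comm (pa_lt p) hv, mul_assoc, mul_inv_cancel, mul_one]
  unfold notOne at h
  rw [Bool.and_eq_true] at h
  cases hg : Nat.beq (pg p) idG with
  | false =>
    rw [hg] at h
    have hne : Nat.beq (cmp (pg p) idG) idG = false := by
      cases hb : Nat.beq (cmp (pg p) idG) idG with
      | false => rfl
      | true => rw [hb] at h; exact absurd h.2 Bool.false_ne_true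
    have : cmp (pg p) idG = idG := by
      have hi : img idG 0 = 1 ∧ img idG 1 = 2 ∧ img idG 2 = 4 ∧ img idG 3 = 8 ∧ img idG 4 = 16 ∧ img idG 5 = 32 := by
        decide +kernel
      unfold cmp
      rw [hi.1, hi.2.1, hi.2.2.1, hi.2.2.2.1, hi.2.2.2.2.1, hi.2.2.2.2.2, hact 1 (by norm_num), hact 2 (by norm_num),
        hact 4 (by norm_num), hact 8 (by norm_num), hact 16 (by norm_num), hact 32 (by norm_num)]
      decide +kernel
    rw [this] at hne
    simp at hne
  | true =>
    rw [hg] at h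
    have h2 := h.1
    simp only [Bool.and_eq_true] at h2
    obtain ⟨hs, ha⟩ := h2
    have hs' : ps p = 0 := Nat.eq_of_beq_eq_true hs
    have hl : F.Lift W idG 0 y := by
      refine ⟨fun v hv => ?_, ?_⟩
      · rw [hy.1 v hv, hact v hv, app_id hv]
      · rw [← hs']; exact hy.2
    have h1 := lift_unique hO hl lift_one fun _ _ => rfl
    have : pa p = 0 := F.inj _ (pa_lt p) 0 (by norm_num) (by rw [← hy', h1, F.f_zero])
    rw [this] at ha
    simp at ha

end Frm

end CfsgLib.Spor.HeldRecog.Amalgam
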