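import Cfsg.Agent.Lib.Spor.HeldRecog.Amalgam.Perm

/-!
Exhaustive search for the linear maps of the six bit space that preserve a set and fix a point.
-/

set_option autoImplicit false

namespace CfsgLib.Spor.HeldRecog.Amalgam

open CfsgLib.Spor.TC

/-- The bit of a mask, as a number. -/
noncomputable def bit (M v : ℕ) : ℕ := Nat.land (Nat.shiftRight M v) 1

theorem bit_eq (M v : ℕ) : bit M v = (M.testBit v).toNat := by
  show M >>> v &&& 1 = _
  rw [Nat.toNat_testBit, Nat.shiftRight_eq_div_pow, Nat.and_one_is_mod]

/-- The image `t` of the unit vector `k` is compatible with the images of the earlier ones. -/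
noncomputable def candOK (M z k g t : ℕ) : Bool :=
  (Bool.rec true (Nat.beq t z) (Nat.beq (Nat.shiftLeft 1 k) z)) &&
    allFrom (fun v => Nat.beq (bit M (Nat.xor (app g v) t)) (bit M (Nat.add (Nat.shiftLeft 1 k) v)) &&
      Bool.rec true false (Nat.beq (app g v) t)) 0 (Nat.shiftLeft 1 k)

/-- A number with a new image of the unit vector `k`. -/
noncomputable def addImg (g k t : ℕ) : ℕ := Nat.add g (Nat.shiftLeft t (Nat.mul 6 k))

/-- Every completion of a partial map is listed; `fuel` unit vectors are left. -/
noncomputable def searchOK (M z : ℕ) (L : List ℕ) (fuel : ℕ) : ℕ → ℕ → Bool :=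
  Nat.rec (motive := fun _ => ℕ → ℕ → Bool) (fun _ g => memNat g L)
    (fun _ ih k g => allFrom (fun t => Bool.rec true (ih (Nat.add k 1) (addImg g k t)) (candOK M z k g t)) 0 64) fuel

/-- The code agreeing with `g` on the first `k` unit vectors. -/
noncomputable def trunc (g : ℕ) : ℕ → ℕ
  | 0 => 0
  | k + 1 => trunc g k + img g k <<< (6 * k)

theorem trunc_eq (g : ℕ) : ∀ k, trunc g k = g % 2 ^ (6 * k)
  | 0 => by simp [trunc, Nat.mod_one]
  | k + 1 => by
    have h : img g k = g / 2 ^ (6 * k) % 64 := by
      show g >>> (6 * k) &&& 63 = _
      rw [Nat.shiftRight_eq_div_pow, show (63 : ℕ) = 2 ^ 6 - 1 by norm_num, Nat.and_two_pow_sub_one_eq_mod]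
    rw [trunc, trunc_eq g k, h, Nat.shiftLeft_eq, show 6 * (k + 1) = 6 * k + 6 by ring,
      pow_add, Nat.mod_mul]
    norm_num
    ring

theorem img_trunc (g : ℕ) {i k : ℕ} (h : i < k) : img (trunc g k) i = img g i := by
  show (trunc g k) >>> (6 * i) &&& 63 = g >>> (6 * i) &&& 63
  rw [trunc_eq]
  refine Nat.eq_of_testBit_eq fun j => ?_
  simp only [Nat.testBit_and, Nat.testBit_shiftRight, Nat.testBit_mod_two_pow]
  by_cases hj : j < 6
  · simp [show 6 * i + j < 6 * k by omega]
  · rw [show (63 : ℕ) = 2 ^ 6 - 1 by norm_num, Nat.testBit_two_pow_sub_one, decide_eq_false hj]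
    simp

theorem app_trunc (g : ℕ) {k v : ℕ} (hk : k ≤ 6) (hv : v < 2 ^ k) : app (trunc g k) v = app g v := by
  have hs : ∀ i, sel v i (img (trunc g k) i) = sel v i (img g i) := fun i => by
    by_cases hi : i < k
    · rw [img_trunc g hi]
    · have hb : v.testBit i = false :=
        Nat.testBit_lt_two_pow (lt_of_lt_of_le hv (Nat.pow_le_pow_right (by norm_num) (not_lt.1 hi)))
      simp [sel_eq, hb]
  unfold app
  rw [hs 0, hs 1, hs 2, hs 3, hs 4, hs 5]

theorem allFrom_intro {f : ℕ → Bool} {n : ℕ} (h : ∀ v < n, f v = true) : allFrom f 0 n = true := by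
  have : ∀ len a, a + len ≤ n → allFrom f a len = true := by
    intro len
    induction len with
    | zero => intros; rfl
    | succ len ih =>
      intro a ha
      show (f a && allFrom f (a + 1) len) = true
      rw [h a (by omega), ih (a + 1) (by omega)]
      rfl
  exact this n 0 (by omega)

/-- **Soundness of the search**: a linear map that preserves the set, is injective and fixes `z` is listed. -/
theorem mem_of_search {M z : ℕ} {L : List ℕ} (h : searchOK M z L 6 0 0 = true) (g : ℕ)
    (hinj : ∀ v < 64, app g v = 0 → v = 0) (hM : ∀ v < 64, M.testBit (app g v) = M.testBit v)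
    (hz : app g z = z) : ∃ g' ∈ L, ∀ v < 64, app g' v = app g v := by
  have key : ∀ fuel k, fuel + k = 6 → searchOK M z L fuel k (trunc g k) = true → trunc g 6 ∈ L := by
    intro fuel
    induction fuel with
    | zero =>
      intro k hk h
      rw [Nat.zero_add] at hk
      subst hk
      exact memNat_spec h
    | succ fuel ih =>
      intro k hk h
      have h1 : Bool.rec true (searchOK M z L fuel (k + 1) (addImg (trunc g k) k (img g k)))
          (candOK M z k (trunc g k) (img g k)) = true := by
        have h2 : allFrom (fun t => Bool.rec true (searchOK M z L fuel (k + 1) (addImg (trunc g k) k t))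
          (candOK M z k (trunc g k) t)) 0 64 = true := h
        exact allFrom_spec h2 _ (Nat.zero_le _) (by have := img_lt g k; omega)
      have hk6 : k < 6 := by omega
      have e1 : app g (2 ^ k) = img g k := by
        interval_cases k <;> simp [app, sel_eq, Nat.testBit_eq_decide_div_mod_eq]
      have hc : candOK M z k (trunc g k) (img g k) = true := by
        unfold candOK
        rw [Bool.and_eq_true]
        constructor
        · cases hb : Nat.beq (Nat.shiftLeft 1 k) z with
          | false => rfl
          | true =>
            have hz' : 2 ^ k = z := by rw [← Nat.one_shiftLeft]; exact Nat.eq_of_beq_eq_true hb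
            show Nat.beq (img g k) z = true
            rw [← e1, hz', hz]
            exact Nat.beq_refl z
        · refine allFrom_intro fun v hv => ?_
          have hv' : v < 2 ^ k := by rw [← Nat.one_shiftLeft]; exact hv
          have hadd : 2 ^ k + v = 2 ^ k ^^^ v := by
            refine Nat.eq_of_testBit_eq fun i => ?_
            rw [Nat.testBit_xor]
            rcases lt_trichotomy i k with hi | rfl | hi
            · rw [Nat.testBit_two_pow_add_gt hi, Nat.testBit_two_pow, decide_eq_false (by omega)]
              simp
            · rw [Nat.testBit_two_pow_add_eq, Nat.testBit_two_pow, Nat.testBit_lt_two_pow hv']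
              simp
            · rw [Nat.testBit_two_pow, decide_eq_false (by omega),
                Nat.testBit_lt_two_pow (lt_of_lt_of_le hv' (Nat.pow_le_pow_right (by norm_num) hi.le)),
                Nat.testBit_lt_two_pow]
              · simp
              · calc 2 ^ k + v < 2 ^ k + 2 ^ k := by omega
                  _ = 2 ^ (k + 1) := by ring
                  _ ≤ 2 ^ i := Nat.pow_le_pow_right (by norm_num) hi
          have h64 : 2 ^ k + v < 64 := by
            have : 2 ^ (k + 1) ≤ 2 ^ 6 := Nat.pow_le_pow_right (by norm_num) (by omega)
            rw [pow_succ] at this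
            omega
          have himg : app g (2 ^ k + v) = app g v ^^^ img g k := by
            rw [hadd, app_xor, e1, Nat.xor_comm]
          rw [app_trunc g hk6.le hv', Bool.and_eq_true]
          constructor
          · show Nat.beq (bit M (app g v ^^^ img g k)) (bit M (1 <<< k + v)) = true
            rw [Nat.one_shiftLeft, ← himg, bit_eq, bit_eq, hM _ h64]
            exact Nat.beq_refl _
          · cases hb : Nat.beq (app g v) (img g k) with
            | false => rfl
            | true =>
              exfalso
              have h0 : app g (2 ^ k + v) = 0 := by rw [himg, Nat.eq_of_beq_eq_true hb, Nat.xor_self]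
              have := hinj _ h64 h0
              have := Nat.two_pow_pos k
              omega
      rw [hc] at h1
      exact ih (k + 1) (by omega) h1
  exact ⟨_, key 6 0 rfl h, fun v hv => app_trunc g le_rfl hv⟩

end CfsgLib.Spor.HeldRecog.Amalgam
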