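import Cfsg.Agent.Lib.Spor.HeldFusion.Main
import Cfsg.Agent.Lib.Spor.HeldRecog.Amalgam.Search
import Cfsg.Agent.Lib.Spor.HeldRecog.Amalgam.Frame

/-!
# The normaliser of one elementary subgroup, normalised against the centraliser

Some element of order three induces the given map, and the lifts of two generators of the point stabiliser
are the given elements of the centraliser: three other classes of complements contradict the fusion.
-/

set_option autoImplicit false
set_option linter.unusedSectionVars false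
set_option linter.style.haveILetI false
set_option maxHeartbeats 600000

namespace CfsgLib.Spor.HeldRecog.Amalgam

open CfsgLib.Spor.TC CfsgLib.Spor.HeldFusion Subgroup

/-- A witness: translation, two words and a lift code conjugating one to the other. -/
structure Wit where
  a : ℕ
  l : List ℕ
  l' : List ℕ
  P : ℕ

/-- The data of a side. -/
structure SideData where
  code : ℕ → ℕ
  z : ℕ
  mask : ℕ
  w : ℕ
  stab : List (ℕ × ℕ)
  k1 : ℕ
  k2 : ℕ
  P1 : ℕ
  P2 : ℕ
  rels : List (List ℕ)
  wits : List Wit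
  pat : ℕ

/-- A word in codes of the centraliser. -/
noncomputable def evC (c : ℕ → ℕ) (l : List ℕ) : ℕ :=
  List.rec (motive := fun _ => ℕ) 0 (fun i _ ih => mulC (c i) ih) l

/-- A pair as a sequence. -/
noncomputable def two (a b i : ℕ) : ℕ := Bool.rec b a (Nat.beq i 0)

/-- A test on a list. -/
noncomputable def listAll {α : Type} (f : α → Bool) (l : List α) : Bool :=
  List.rec (motive := fun _ => Bool) true (fun a _ ih => f a && ih) l

/-- A test that some member passes. -/
noncomputable def listAny {α : Type} (f : α → Bool) (l : List α) : Bool :=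
  List.rec (motive := fun _ => Bool) false (fun a _ ih => f a || ih) l

theorem listAll_spec {α : Type} {f : α → Bool} : ∀ {l : List α}, listAll f l = true → ∀ a ∈ l, f a = true
  | [], _, a, ha => absurd ha List.not_mem_nil
  | b :: l, h, a, ha => by
    change (f b && listAll f l) = true at h
    rw [Bool.and_eq_true] at h
    rcases List.mem_cons.1 ha with rfl | ha
    · exact h.1
    · exact listAll_spec h.2 a ha

theorem listAll_intro {α : Type} {f : α → Bool} : ∀ {l : List α}, (∀ a ∈ l, f a = true) → listAll f l = true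
  | [], _ => rfl
  | b :: l, h => by
    show (f b && listAll f l) = true
    rw [h b List.mem_cons_self, listAll_intro fun a ha => h a (List.mem_cons_of_mem _ ha)]
    rfl

theorem listAny_spec {α : Type} {f : α → Bool} : ∀ {l : List α}, listAny f l = true → ∃ a ∈ l, f a = true
  | [], h => absurd h Bool.false_ne_true
  | b :: l, h => by
    change (f b || listAny f l) = true at h
    rw [Bool.or_eq_true] at h
    rcases h with h | h
    · exact ⟨b, List.mem_cons_self, h⟩
    · obtain ⟨a, ha, hf⟩ := listAny_spec h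
      exact ⟨a, List.mem_cons_of_mem _ ha, hf⟩

theorem evC_lt {c : ℕ → ℕ} : ∀ {l : List ℕ}, (∀ i ∈ l, c i < 21504) → evC c l < 21504
  | [], _ => by show 0 < 21504; norm_num
  | a :: l, h => mulC_lt (h a List.mem_cons_self) (evC_lt fun i hi => h i (List.mem_cons_of_mem _ hi))

theorem map_evC {G : Type*} [Group G] (ι : Cen splitTab →* G) {c : ℕ → ℕ} :
    ∀ {l : List ℕ}, (∀ i ∈ l, c i < 21504) → ι (el (evC c l)) = ev (fun i => ι (el (c i))) l
  | [], _ => by
    show ι (el 0) = _
    simp [el_zero, ev]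
  | a :: l, h => by
    show ι (el (mulC (c a) (evC c l))) = _
    rw [el_mul (h a List.mem_cons_self) (evC_lt fun i hi => h i (List.mem_cons_of_mem _ hi)), map_mul,
      map_evC ι fun i hi => h i (List.mem_cons_of_mem _ hi), ev_cons]

/-- The class of the element lies in the pattern. -/
def inClass (m n : ℕ) : Bool :=
  n == zCode || (List.range 7).any fun c => Nat.testBit m c && (classL c).contains n

variable (S : SideData)

/-- The linear map of a code. -/
noncomputable def SideData.G1 : ℕ := Frm.pg S.P1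

/-- The mask is the class of `t` among the points. -/
def SideData.maskOK (L : List ℕ) : Bool := (List.range 64).all fun v => Nat.testBit S.mask v == inZ S.pat (L.getD v 9)

/-- Every element commuting with the subgroup is in it. -/
noncomputable def SideData.selfOK : Bool :=
  allFrom (fun n => Bool.rec true (memNat n ((List.range 64).map S.code))
    (listAll (fun b => Nat.beq (mulC n (S.code b)) (mulC (S.code b) n)) [1, 2, 4, 8, 16, 32])) 0 21504

/-- The listed maps are induced by the listed codes. -/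
noncomputable def SideData.stabOK : Bool :=
  listAll (fun p => Nat.blt p.2 21504 &&
    allFrom (fun v => Nat.beq (mulC p.2 (S.code v)) (mulC (S.code (app p.1 v)) p.2)) 0 64) S.stab

/-- The map `w` is injective, preserves the set, is fixed-point-free and of order three. -/
noncomputable def SideData.wOK : Bool :=
  allFrom (fun v => Nat.beq (app (cmp S.w (cmp S.w S.w)) v) v &&
    (Nat.beq v 0 || (Bool.rec true false (Nat.beq (app S.w v) v))) &&
    Nat.beq (bit S.mask (app S.w v)) (bit S.mask v)) 0 64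

/-- One lift code conjugates `w` properly, and corrections exist. -/
noncomputable def SideData.liftOK (P : ℕ) : Bool :=
  allFrom (fun v => Nat.beq (app (cmp (Frm.pg P) S.w) v) (app (cmp (Frm.wpow S.w (Frm.ps P)) (Frm.pg P)) v) &&
    (listAny (fun b => Nat.beq (Nat.xor b (app (Frm.wpow S.w (Frm.ps P)) b)) v) (List.range 64) &&
      (Nat.beq (bit S.mask (app (Frm.pg P) v)) (bit S.mask v) &&
        (Nat.beq v 0 || Bool.rec true false (Nat.beq (app (Frm.pg P) v) 0))))) 0 64 &&
    Nat.beq (Frm.pa P) 0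

/-- The two given elements induce the two maps. -/
noncomputable def SideData.genOK : Bool :=
  (Nat.blt S.k1 21504 && Nat.blt S.k2 21504) &&
    allFrom (fun v => Nat.beq (mulC S.k1 (S.code v)) (mulC (S.code (app (Frm.pg S.P1) v)) S.k1) &&
      Nat.beq (mulC S.k2 (S.code v)) (mulC (S.code (app (Frm.pg S.P2) v)) S.k2)) 0 64

/-- The relators hold among the maps. -/
noncomputable def SideData.relOK : Bool :=
  listAll (fun l => listAll (fun i => Nat.blt i 2) l &&
    Nat.beq (Frm.wcode (two S.P1 S.P2) l) Frm.pone) S.rels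

/-- The witnesses are conjugations. -/
noncomputable def SideData.witOK : Bool :=
  listAll (fun r => Nat.blt r.a 64 && (listAll (fun i => Nat.blt i 2) r.l && (listAll (fun i => Nat.blt i 2) r.l' &&
    Nat.beq (Frm.pmul r.P (Frm.pmul (Frm.pk r.a 0 idG) (Frm.wcode (two S.P1 S.P2) r.l)))
      (Frm.pmul (Frm.pmul (Frm.pk (app (Frm.pg r.P) r.a) 0 idG) (Frm.wcode (two S.P1 S.P2) r.l')) r.P)))) S.wits

/-- The element of the centraliser for a witness. -/
noncomputable def SideData.witCode (a : ℕ) (l : List ℕ) (c1 c2 : ℕ) : ℕ := mulC (S.code a) (evC (two c1 c2) l)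

/-- A pair of translations is conjugate to none, or contradicts the fusion. -/
noncomputable def SideData.normAt (a1 a2 : ℕ) : Bool :=
  Bool.rec true
    (listAny (fun b => Nat.beq (mulC (S.code b) (mulC S.k1 (S.code a1))) (mulC S.k1 (S.code b)) &&
        Nat.beq (mulC (S.code b) (mulC S.k2 (S.code a2))) (mulC S.k2 (S.code b))) (List.range 64) ||
      listAny (fun r => !(inClass S.pat (S.witCode r.a r.l (mulC S.k1 (S.code a1)) (mulC S.k2 (S.code a2))) ==
        inClass S.pat (S.witCode (app (Frm.pg r.P) r.a) r.l' (mulC S.k1 (S.code a1)) (mulC S.k2 (S.code a2))))) S.wits)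
    (listAll (fun l => Nat.beq (evC (two (mulC S.k1 (S.code a1)) (mulC S.k2 (S.code a2))) l) 0) S.rels)

/-- All pairs. -/
noncomputable def SideData.normOK : Bool := allFrom (fun a1 => allFrom (fun a2 => S.normAt a1 a2) 0 64) 0 64

/-- What is checked of the data. -/
structure SideData.Valid (L : List ℕ) : Prop where
  zlt : S.z < 64
  zcode : S.code S.z = zCode
  mask : S.maskOK L = true
  self : S.selfOK = true
  stab : S.stabOK = true
  search : searchOK S.mask S.z (S.stab.map Prod.fst) 6 0 0 = true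
  wok : S.wOK = true
  lift1 : S.liftOK S.P1 = true
  lift2 : S.liftOK S.P2 = true
  wlift : listAll (fun r => S.liftOK r.P) S.wits = true
  gen : S.genOK = true
  rel : S.relOK = true
  wit : S.witOK = true
  norm : S.normOK = true

variable {S} {L : List ℕ} {G : Type*} [Group G] [Finite G] {t : G}
  (e : Cen splitTab ≃* centralizer ({t} : Set G)) (he : ((e ⟨64, by norm_num⟩ : _) : G) = t) (ht : orderOf t = 2)
  (hm : patt e = S.pat) (D : Side t L (patt e)) (hf : ∀ v, D.f v = incl e (el (S.code v)))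
  (hclt : ∀ v < 64, S.code v < 21504)
  (htr : ∀ a ∈ D.A, IsConj t a → ∃ n ∈ normalizer (D.A : Set G), n * t * n⁻¹ = a)
  (hV : S.Valid L)

include hm hV in
theorem mask_iff {v : ℕ} (hv : v < 64) : IsConj t (D.f v) ↔ S.mask.testBit v = true := by
  rw [D.f_class v hv, hm]
  have h := hV.mask
  rw [SideData.maskOK, List.all_eq_true] at h
  rw [beq_iff_eq.1 (h v (List.mem_range.2 hv))]

include he hf hclt hV in
theorem self_centralizing (x : G) (hx : ∀ v < 64, x * D.f v = D.f v * x) : ∃ a < 64, x = D.f a := by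
  have hz : D.f S.z = t := by rw [hf, hV.zcode, incl_z e he]
  obtain ⟨y, rfl⟩ := exists_incl e (g := x) (mem_centralizer_singleton_iff.2 (by
    have h := hx S.z hV.zlt
    rw [hz] at h
    exact h))
  have hb : ∀ b < 64, mulC y.val (S.code b) = mulC (S.code b) y.val := fun b hb => by
    have h := hx b hb
    rw [hf, ← map_mul, ← map_mul, ← el_of_val y, ← el_mul y.lt (hclt b hb), ← el_mul (hclt b hb) y.lt] at h
    exact el_inj (mulC_lt y.lt (hclt b hb)) (mulC_lt (hclt b hb) y.lt) (incl_injective e h)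
  have h := allFrom_spec hV.self y.val (Nat.zero_le _) (by have := y.lt; omega)
  rw [listAll_intro fun b hb' => by
    have hb64 : b < 64 := by simp only [List.mem_cons, List.not_mem_nil, or_false] at hb'; omega
    rw [hb b hb64]; exact Nat.beq_refl _] at h
  obtain ⟨a, ha, hay⟩ := List.mem_map.1 (memNat_spec h)
  exact ⟨a, List.mem_range.1 ha, by rw [hf, hay, el_of_val]⟩

/-- The frame of a side. -/
noncomputable def mkFrame : Frm G where
  f := D.f
  xor := D.f_xor
  inj := D.f_inj
  self := self_centralizing e he D hf hclt hV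

local notation "FR" => mkFrame e he D hf hclt hV

include hm htr in
/-- Linear maps preserving the class are induced. -/
theorem realise (g : ℕ) (hinj : ∀ v < 64, app g v = 0 → v = 0)
    (hM : ∀ v < 64, S.mask.testBit (app g v) = S.mask.testBit v) : ∃ x : G, (FR).Acts x g := by
  have hz : D.f S.z = t := by rw [hf, hV.zcode, incl_z e he]
  have hzM : S.mask.testBit S.z = true := (mask_iff e hm D hV hV.zlt).1 (by rw [hz])
  obtain ⟨n, hn, hnt⟩ := htr (D.f (app g S.z)) (D.f_mem _ (app_lt g _))
    ((mask_iff e hm D hV (app_lt g _)).2 (by rw [hM _ hV.zlt, hzM]))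
  have key : ∀ n ∈ normalizer (D.A : Set G), ∃ g0, ∀ v < 64, n * D.f v * n⁻¹ = D.f (app g0 v) := by
    intro n hn
    have h : ∀ v, v < 64 → ∃ u, u < 64 ∧ D.f u = n * D.f v * n⁻¹ := fun v hv =>
      D.f_surj _ ((Subgroup.mem_set_normalizer_iff.1 hn _).1 (D.f_mem v hv))
    classical
    let m : ℕ → ℕ := fun v => if hv : v < 64 then (h v hv).choose else 0
    have hmv : ∀ v < 64, m v < 64 ∧ D.f (m v) = n * D.f v * n⁻¹ := fun v hv => by
      simp only [m, dif_pos hv]
      exact (h v hv).choose_spec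
    obtain ⟨g0, hg0⟩ := exists_code m (fun v hv => (hmv v hv).1) fun v hv u hu => by
      have huv : v ^^^ u < 64 := Nat.xor_lt_two_pow (n := 6) hv hu
      have hmm : m v ^^^ m u < 64 := Nat.xor_lt_two_pow (n := 6) (hmv v hv).1 (hmv u hu).1
      refine D.f_inj _ (hmv _ huv).1 _ hmm ?_
      rw [(hmv _ huv).2, ← D.f_xor _ (hmv v hv).1 _ (hmv u hu).1, (hmv v hv).2, (hmv u hu).2, ← D.f_xor v hv u hu]
      group
    exact ⟨g0, fun v hv => by rw [← hg0 v hv, (hmv v hv).2]⟩
  obtain ⟨g0, hg0⟩ := key n hn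
  obtain ⟨g1, hg1⟩ := key n⁻¹ (inv_mem hn)
  rw [inv_inv] at hg1
  have h01 : ∀ v < 64, app g0 (app g1 v) = v := fun v hv =>
    D.f_inj _ (app_lt g0 _) _ hv (by rw [← hg0 _ (app_lt g1 v), ← hg1 v hv]; group)
  have hg2M : ∀ v < 64, S.mask.testBit (app (cmp g1 g) v) = S.mask.testBit v := fun v hv => by
    rw [app_cmp, ← hM v hv, Bool.eq_iff_iff, ← mask_iff e hm D hV (app_lt g1 _), ← mask_iff e hm D hV (app_lt g v),
      ← hg1 _ (app_lt g v)]
    have hc : IsConj (D.f (app g v)) (n⁻¹ * D.f (app g v) * n) := isConj_iff.2 ⟨n⁻¹, by rw [inv_inv]⟩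
    exact ⟨fun h' => h'.trans hc.symm, fun h' => h'.trans hc⟩
  have hg2z : app (cmp g1 g) S.z = S.z := by
    rw [app_cmp]
    refine D.f_inj _ (app_lt g1 _) _ hV.zlt ?_
    rw [← hg1 _ (app_lt g _), hz, ← hnt]
    group
  obtain ⟨g', hg', heq⟩ := mem_of_search hV.search (cmp g1 g)
    (fun v hv h => hinj v hv (by
      rw [app_cmp] at h
      have h2 := h01 (app g v) (app_lt g v)
      rw [h, app_zero] at h2
      exact h2.symm)) hg2M hg2z
  obtain ⟨⟨g'', x⟩, hp, hgg⟩ := List.mem_map.1 hg'
  simp only at hgg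
  subst hgg
  have hs := listAll_spec hV.stab _ hp
  simp only [Bool.and_eq_true] at hs
  refine ⟨n * incl e (el x), fun v hv => ?_⟩
  have h1 := Nat.eq_of_beq_eq_true (allFrom_spec hs.2 v (Nat.zero_le v) (by omega))
  have hx : x < 21504 := Nat.le_of_ble_eq_true hs.1
  show n * incl e (el x) * D.f v = D.f (app g v) * (n * incl e (el x))
  rw [hf v, mul_assoc, ← map_mul, ← el_mul hx (hclt v hv), h1, el_mul (hclt _ (app_lt _ v)) hx, map_mul, ← hf,
    heq v hv, app_cmp, ← mul_assoc, show D.f (app g1 (app g v)) = n⁻¹ * D.f (app g v) * n from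
      (hg1 _ (app_lt g v)).symm]
  group

include hV in
theorem w_facts {v : ℕ} (hv : v < 64) : app S.w (app S.w (app S.w v)) = v ∧ (app S.w v = v → v = 0) ∧
    S.mask.testBit (app S.w v) = S.mask.testBit v := by
  have h := allFrom_spec hV.wok v (Nat.zero_le v) (by omega)
  simp only [Bool.and_eq_true, Bool.or_eq_true] at h
  refine ⟨?_, fun h0 => ?_, ?_⟩
  · have h3 := Nat.eq_of_beq_eq_true h.1.1
    rw [app_cmp, app_cmp] at h3
    exact h3
  · rcases h.1.2 with h2 | h2
    · exact Nat.eq_of_beq_eq_true h2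
    · rw [h0, Nat.beq_refl] at h2; exact absurd h2 Bool.false_ne_true
  · have := Nat.eq_of_beq_eq_true h.2
    rw [bit_eq, bit_eq] at this
    revert this
    cases S.mask.testBit (app S.w v) <;> cases S.mask.testBit v <;> simp

include hm htr in
theorem exists_W : ∃ W : G, (FR).Ok W S.w := by
  obtain ⟨W, hW⟩ := realise e he hm D hf hclt htr hV S.w
    (fun v hv h => by
      have := (w_facts hV hv).1
      rw [h, app_zero, app_zero] at this
      exact this.symm)
    fun v hv => (w_facts hV hv).2.2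
  refine ⟨W, hW, ?_, fun a ha h => (w_facts hV ha).2.1 h⟩
  obtain ⟨c, hc, he3⟩ := (FR).acts_diff ((FR).acts_mul hW ((FR).acts_mul hW hW)) (FR).acts_one
    fun v hv => by rw [app_cmp, app_cmp, app_id hv, (w_facts hV hv).1]
  rw [one_mul] at he3
  have h1 : (FR).f c = (FR).f (app S.w c) := by
    refine mul_right_cancel (b := W) ?_
    rw [← hW c hc, ← he3]
    group
  have h0 := (w_facts hV hc).2.1 ((FR).inj _ hc _ (app_lt _ c) h1).symm
  rw [h0, (FR).f_zero] at he3
  rw [show (3 : ℕ) = 1 + (1 + 1) from rfl, pow_add, pow_add, pow_one]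
  exact he3

include hm htr in
/-- A checked lift code has a lift. -/
theorem exists_lift_code {W : G} (hW : (FR).Ok W S.w) {P : ℕ} (hP : S.liftOK P = true) :
    ∃ y, (FR).Lift W (Frm.pg P) (Frm.ps P) y ∧ (FR).Rep W P y := by
  unfold SideData.liftOK at hP
  rw [Bool.and_eq_true] at hP
  obtain ⟨hv, hpa⟩ := hP
  have h : ∀ v < 64, app (cmp (Frm.pg P) S.w) v = app (cmp (Frm.wpow S.w (Frm.ps P)) (Frm.pg P)) v ∧
      (∃ b < 64, b ^^^ app (Frm.wpow S.w (Frm.ps P)) b = v) ∧
      S.mask.testBit (app (Frm.pg P) v) = S.mask.testBit v ∧ (app (Frm.pg P) v = 0 → v = 0) := by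
    intro v hv'
    have h := allFrom_spec hv v (Nat.zero_le v) (by omega)
    simp only [Bool.and_eq_true, Bool.or_eq_true] at h
    obtain ⟨b, hb, hbe⟩ := listAny_spec h.2.1
    refine ⟨Nat.eq_of_beq_eq_true h.1, ⟨b, List.mem_range.1 hb, Nat.eq_of_beq_eq_true hbe⟩, ?_, fun h0 => ?_⟩
    · have := Nat.eq_of_beq_eq_true h.2.2.1
      rw [bit_eq, bit_eq] at this
      revert this
      cases S.mask.testBit (app (Frm.pg P) v) <;> cases S.mask.testBit v <;> simp
    · rcases h.2.2.2 with h2 | h2
      · exact Nat.eq_of_beq_eq_true h2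
      · rw [h0, Nat.beq_refl] at h2; exact absurd h2 Bool.false_ne_true
  obtain ⟨x, hx⟩ := realise e he hm D hf hclt htr hV (Frm.pg P) (fun v hv' => (h v hv').2.2.2) fun v hv' => (h v hv').2.2.1
  obtain ⟨y, hy⟩ := Frm.exists_lift hW hx (Frm.ps_lt P) (fun v hv' => (h v hv').1) fun a ha => (h a ha).2.1
  exact ⟨y, hy, y, hy, by rw [Nat.eq_of_beq_eq_true hpa, (FR).f_zero, one_mul]⟩

include ht hm htr in
/-- **The normalised element of order three.** -/
theorem exists_norm : ∃ W : G, (FR).Ok W S.w ∧ (FR).Rep W S.P1 (incl e (el S.k1)) ∧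
    (FR).Rep W S.P2 (incl e (el S.k2)) := by
  obtain ⟨W, hW⟩ := exists_W e he hm D hf hclt htr hV
  obtain ⟨y1, hy1, hr1⟩ := exists_lift_code e he hm D hf hclt htr hV hW hV.lift1
  obtain ⟨y2, hy2, hr2⟩ := exists_lift_code e he hm D hf hclt htr hV hW hV.lift2
  have hgen := hV.gen
  unfold SideData.genOK at hgen
  simp only [Bool.and_eq_true] at hgen
  obtain ⟨⟨hk1, hk2⟩, hgen⟩ := hgen
  replace hk1 : S.k1 < 21504 := Nat.le_of_ble_eq_true hk1
  replace hk2 : S.k2 < 21504 := Nat.le_of_ble_eq_true hk2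
  have hact : ∀ v < 64, mulC S.k1 (S.code v) = mulC (S.code (app (Frm.pg S.P1) v)) S.k1 ∧
      mulC S.k2 (S.code v) = mulC (S.code (app (Frm.pg S.P2) v)) S.k2 := fun v hv => by
    have h := allFrom_spec hgen v (Nat.zero_le v) (by omega)
    simp only [Bool.and_eq_true] at h
    exact ⟨Nat.eq_of_beq_eq_true h.1, Nat.eq_of_beq_eq_true h.2⟩
  have hA : ∀ (k g : ℕ), k < 21504 → (∀ v < 64, mulC k (S.code v) = mulC (S.code (app g v)) k) →
      (FR).Acts (incl e (el k)) g := fun k g hk h v hv => by
    show incl e (el k) * D.f v = D.f (app g v) * incl e (el k)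
    rw [hf, hf, ← map_mul, ← map_mul, ← el_mul hk (hclt v hv), h v hv, el_mul (hclt _ (app_lt g v)) hk]
  obtain ⟨a1, ha1, e1⟩ := (FR).acts_diff hy1.1 (hA _ _ hk1 fun v hv => (hact v hv).1) fun _ _ => rfl
  obtain ⟨a2, ha2, e2⟩ := (FR).acts_diff hy2.1 (hA _ _ hk2 fun v hv => (hact v hv).2) fun _ _ => rfl
  set c1 := mulC S.k1 (S.code a1) with hc1
  set c2 := mulC S.k2 (S.code a2) with hc2
  have hc1lt : c1 < 21504 := mulC_lt hk1 (hclt _ ha1)
  have hc2lt : c2 < 21504 := mulC_lt hk2 (hclt _ ha2)
  have ey1 : y1 = incl e (el c1) := by rw [hc1, el_mul hk1 (hclt _ ha1), map_mul, ← hf]; exact e1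
  have ey2 : y2 = incl e (el c2) := by rw [hc2, el_mul hk2 (hclt _ ha2), map_mul, ← hf]; exact e2
  have hrep : ∀ l : List ℕ, (∀ i ∈ l, i < 2) →
      (FR).Rep W (Frm.wcode (two S.P1 S.P2) l) (incl e (el (evC (two c1 c2) l))) := fun l hl => by
    rw [map_evC (incl e) fun i hi => by
      have := hl i hi
      interval_cases i
      · exact hc1lt
      · exact hc2lt]
    refine Frm.rep_ev hW.cube _ _ fun i hi => ?_
    have := hl i hi
    interval_cases i
    · show (FR).Rep W S.P1 (incl e (el c1))
      rw [← ey1]; exact hr1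
    · show (FR).Rep W S.P2 (incl e (el c2))
      rw [← ey2]; exact hr2
  have hne := hV.norm
  unfold SideData.normOK at hne
  have h := allFrom_spec (allFrom_spec hne a1 (Nat.zero_le _) (by omega)) a2 (Nat.zero_le _) (by omega)
  unfold SideData.normAt at h
  rw [← hc1, ← hc2, listAll_intro fun l hl => by
    have h1 := listAll_spec hV.rel l hl
    simp only [Bool.and_eq_true] at h1
    have hlt : ∀ i ∈ l, i < 2 := fun i hi => Nat.le_of_ble_eq_true (listAll_spec h1.1 i hi)
    have hR := hrep l hlt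
    rw [Nat.eq_of_beq_eq_true h1.2] at hR
    have h2 : evC (two c1 c2) l = 0 := by
      refine el_inj (evC_lt fun i hi => ?_) (by norm_num) (incl_injective e ?_)
      · have := hlt i hi
        interval_cases i
        · exact hc1lt
        · exact hc2lt
      · rw [Frm.rep_unique hW hR Frm.rep_one, el_zero, map_one]
    rw [h2]; rfl] at h
  change (_ || _) = true at h
  rw [Bool.or_eq_true] at h
  rcases h with h | h
  · obtain ⟨b, hb, hbe⟩ := listAny_spec h
    rw [Bool.and_eq_true] at hbe
    have hb' := List.mem_range.1 hb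
    have hfb : (FR).f b = incl e (el (S.code b)) := hf b
    have conj : ∀ (k c : ℕ), k < 21504 → c < 21504 → mulC (S.code b) c = mulC k (S.code b) →
        (FR).f b * incl e (el c) * ((FR).f b)⁻¹ = incl e (el k) := fun k c hk hc heq => by
      rw [hfb, ← map_mul, ← el_mul (hclt _ hb') hc, heq, el_mul hk (hclt _ hb'), map_mul, mul_assoc,
        mul_inv_cancel, mul_one]
    refine ⟨(FR).f b * W * ((FR).f b)⁻¹, ⟨fun v hv => ?_, ?_, hW.fpf⟩, ?_, ?_⟩
    · rw [(FR).f_inv hb', mul_assoc, (FR).f_comm hb' hv, ← mul_assoc, mul_assoc _ W, hW.acts v hv,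
        ← mul_assoc, (FR).f_comm hb' (app_lt S.w v)]
      simp only [mul_assoc]
    · rw [conj_pow, hW.cube, mul_one, mul_inv_cancel]
    · obtain ⟨y, hy, hye⟩ := hr1
      have hpa : Frm.pa S.P1 = 0 := by
        have := hV.lift1
        unfold SideData.liftOK at this
        rw [Bool.and_eq_true] at this
        exact Nat.eq_of_beq_eq_true this.2
      rw [hpa, (FR).f_zero, one_mul] at hye
      refine ⟨incl e (el S.k1), ⟨hA _ _ hk1 fun v hv => (hact v hv).1, ?_⟩, by rw [hpa, (FR).f_zero, one_mul]⟩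
      rw [conj_pow, ← conj _ c1 hk1 hc1lt (Nat.eq_of_beq_eq_true hbe.1), ← ey1, hye]
      calc _ = (FR).f b * (y * W) * ((FR).f b)⁻¹ := by group
        _ = _ := by rw [hy.2]; group
    · obtain ⟨y, hy, hye⟩ := hr2
      have hpa : Frm.pa S.P2 = 0 := by
        have := hV.lift2
        unfold SideData.liftOK at this
        rw [Bool.and_eq_true] at this
        exact Nat.eq_of_beq_eq_true this.2
      rw [hpa, (FR).f_zero, one_mul] at hye
      refine ⟨incl e (el S.k2), ⟨hA _ _ hk2 fun v hv => (hact v hv).2, ?_⟩, by rw [hpa, (FR).f_zero, one_mul]⟩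
      rw [conj_pow, ← conj _ c2 hk2 hc2lt (Nat.eq_of_beq_eq_true hbe.2), ← ey2, hye]
      calc _ = (FR).f b * (y * W) * ((FR).f b)⁻¹ := by group
        _ = _ := by rw [hy.2]; group
  · exfalso
    obtain ⟨r, hr, hre⟩ := listAny_spec h
    obtain ⟨y, hy, hry⟩ := exists_lift_code e he hm D hf hclt htr hV hW (listAll_spec hV.wlift r hr)
    have hw := listAll_spec hV.wit r hr
    simp only [Bool.and_eq_true] at hw
    obtain ⟨ha, hl, hl', heq⟩ := hw
    replace ha : r.a < 64 := Nat.le_of_ble_eq_true ha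
    have hl2 : ∀ i ∈ r.l, i < 2 := fun i hi => Nat.le_of_ble_eq_true (listAll_spec hl i hi)
    have hl2' : ∀ i ∈ r.l', i < 2 := fun i hi => Nat.le_of_ble_eq_true (listAll_spec hl' i hi)
    have hx := Frm.rep_mul hW.cube (Frm.rep_f (F := FR) (W := W) ha) (hrep r.l hl2)
    have hx' := Frm.rep_mul hW.cube (Frm.rep_f (F := FR) (W := W) (app_lt (Frm.pg r.P) r.a)) (hrep r.l' hl2')
    have hlhs := Frm.rep_mul hW.cube hry hx
    rw [Nat.eq_of_beq_eq_true heq] at hlhs
    have key := Frm.rep_unique hW hlhs (Frm.rep_mul hW.cube hx' hry)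
    have hev : ∀ l : List ℕ, (∀ i ∈ l, i < 2) → evC (two c1 c2) l < 21504 := fun l hl => evC_lt fun i hi => by
      have := hl i hi
      interval_cases i
      · exact hc1lt
      · exact hc2lt
    have hclass : ∀ n < 21504, IsConj t (incl e (el n)) ↔ inClass S.pat n = true := fun n hn => by
      rw [isConj_iff_pattern e he ht, hm, inClass, Bool.or_eq_true, List.any_eq_true]
      refine or_congr ?_ ?_
      · rw [beq_iff_eq]
        exact ⟨fun h' => el_inj hn (by norm_num [zCode]) h', fun h' => by rw [h']⟩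
      · simp only [List.mem_range, Bool.and_eq_true, List.contains_iff_mem, el_val hn]
    rw [Bool.not_eq_true'] at hre
    refine absurd (beq_iff_eq.2 ?_) (by rw [hre]; exact Bool.false_ne_true)
    rw [Bool.eq_iff_iff]
    unfold SideData.witCode
    rw [← hc1, ← hc2] at *
    rw [← hclass _ (mulC_lt (hclt _ ha) (hev _ hl2)), ← hclass _ (mulC_lt (hclt _ (app_lt _ _)) (hev _ hl2')),
      el_mul (hclt _ ha) (hev _ hl2), el_mul (hclt _ (app_lt _ _)) (hev _ hl2'), map_mul, map_mul, ← hf, ← hf]
    have hc : IsConj (D.f r.a * incl e (el (evC (two c1 c2) r.l)))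
        (D.f (app (Frm.pg r.P) r.a) * incl e (el (evC (two c1 c2) r.l'))) :=
      isConj_iff.2 ⟨y, mul_inv_eq_iff_eq_mul.2 key⟩
    exact ⟨fun h' => h'.trans hc, fun h' => h'.trans hc.symm⟩

end CfsgLib.Spor.HeldRecog.Amalgam
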