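import Cfsg.Agent.Lib.Spor.TC.Action
import Mathlib.Tactic.IntervalCases

/-!
Linear maps of the six bit space, coded by the images of the six unit vectors, and search for those
preserving a set of points.
-/

set_option autoImplicit false

namespace CfsgLib.Spor.HeldRecog.Amalgam

open CfsgLib.Spor.TC

/-- The image of the unit vector `i`. -/
noncomputable def img (g i : ℕ) : ℕ := Nat.land (Nat.shiftRight g (Nat.mul 6 i)) 63

/-- The number `x` if bit `i` of `v` is set. -/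
noncomputable def sel (v i x : ℕ) : ℕ := Nat.mul (Nat.land (Nat.shiftRight v i) 1) x

/-- The image of a point. -/
noncomputable def app (g v : ℕ) : ℕ :=
  Nat.xor (Nat.xor (Nat.xor (sel v 0 (img g 0)) (sel v 1 (img g 1))) (Nat.xor (sel v 2 (img g 2)) (sel v 3 (img g 3))))
    (Nat.xor (sel v 4 (img g 4)) (sel v 5 (img g 5)))

theorem sel_eq (v i x : ℕ) : sel v i x = (v.testBit i).toNat * x := by
  show (v >>> i &&& 1) * x = _
  rw [Nat.toNat_testBit, Nat.shiftRight_eq_div_pow, Nat.and_one_is_mod]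

theorem sel_xor (v w i x : ℕ) : sel (v ^^^ w) i x = sel v i x ^^^ sel w i x := by
  simp only [sel_eq, Nat.testBit_xor]
  cases v.testBit i <;> cases w.testBit i <;> simp

theorem sel_lt (v i : ℕ) {x : ℕ} (hx : x < 64) : sel v i x < 64 := by
  rw [sel_eq]
  cases v.testBit i <;> simp [hx]

theorem img_lt (g i : ℕ) : img g i < 64 := Nat.lt_succ_of_le Nat.and_le_right

theorem app_xor (g v w : ℕ) : app g (v ^^^ w) = app g v ^^^ app g w := by
  show (sel (v ^^^ w) 0 (img g 0) ^^^ sel (v ^^^ w) 1 (img g 1) ^^^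
      (sel (v ^^^ w) 2 (img g 2) ^^^ sel (v ^^^ w) 3 (img g 3)) ^^^
      (sel (v ^^^ w) 4 (img g 4) ^^^ sel (v ^^^ w) 5 (img g 5))) =
    (sel v 0 (img g 0) ^^^ sel v 1 (img g 1) ^^^ (sel v 2 (img g 2) ^^^ sel v 3 (img g 3)) ^^^
      (sel v 4 (img g 4) ^^^ sel v 5 (img g 5))) ^^^
    (sel w 0 (img g 0) ^^^ sel w 1 (img g 1) ^^^ (sel w 2 (img g 2) ^^^ sel w 3 (img g 3)) ^^^
      (sel w 4 (img g 4) ^^^ sel w 5 (img g 5)))
  simp only [sel_xor]
  ac_rfl

theorem app_lt (g v : ℕ) : app g v < 64 := by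
  have h : ∀ i, sel v i (img g i) < 2 ^ 6 := fun i => sel_lt v i (img_lt g i)
  exact Nat.xor_lt_two_pow (n := 6)
    (Nat.xor_lt_two_pow (n := 6) (Nat.xor_lt_two_pow (n := 6) (h 0) (h 1)) (Nat.xor_lt_two_pow (n := 6) (h 2) (h 3)))
    (Nat.xor_lt_two_pow (n := 6) (h 4) (h 5))

theorem app_zero (g : ℕ) : app g 0 = 0 := by
  have h := app_xor g 0 0
  rw [Nat.xor_zero, Nat.xor_self] at h
  exact h

/-- The code of six images. -/
noncomputable def pack (a b c d e f : ℕ) : ℕ :=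
  Nat.add a (Nat.add (Nat.shiftLeft b 6) (Nat.add (Nat.shiftLeft c 12)
    (Nat.add (Nat.shiftLeft d 18) (Nat.add (Nat.shiftLeft e 24) (Nat.shiftLeft f 30)))))

theorem img_pack {a b c d e f : ℕ} (ha : a < 64) (hb : b < 64) (hc : c < 64) (hd : d < 64) (he : e < 64)
    (hf : f < 64) : img (pack a b c d e f) 0 = a ∧ img (pack a b c d e f) 1 = b ∧ img (pack a b c d e f) 2 = c ∧
      img (pack a b c d e f) 3 = d ∧ img (pack a b c d e f) 4 = e ∧ img (pack a b c d e f) 5 = f := by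
  have hp : pack a b c d e f = a + (b * 64 + (c * 4096 + (d * 262144 + (e * 16777216 + f * 1073741824)))) := by
    show a + (b <<< 6 + (c <<< 12 + (d <<< 18 + (e <<< 24 + f <<< 30)))) = _
    simp only [Nat.shiftLeft_eq]
  have hi : ∀ g i, img g i = g / 2 ^ (6 * i) % 64 := fun g i => by
    show (g >>> (6 * i)) &&& 63 = _
    rw [Nat.shiftRight_eq_div_pow, show (63 : ℕ) = 2 ^ 6 - 1 by norm_num, Nat.and_two_pow_sub_one_eq_mod]
  simp only [hi, hp]
  norm_num
  omega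

/-- The code of a product: first `g'`, then `g`. -/
noncomputable def cmp (g g' : ℕ) : ℕ :=
  pack (app g (img g' 0)) (app g (img g' 1)) (app g (img g' 2)) (app g (img g' 3)) (app g (img g' 4))
    (app g (img g' 5))

theorem app_sel (g v i x : ℕ) : app g (sel v i x) = sel v i (app g x) := by
  simp only [sel_eq]
  cases v.testBit i <;> simp [app_zero]

theorem app_cmp (g g' v : ℕ) : app (cmp g g') v = app g (app g' v) := by
  obtain ⟨h0, h1, h2, h3, h4, h5⟩ := img_pack (app_lt g (img g' 0)) (app_lt g (img g' 1)) (app_lt g (img g' 2))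
    (app_lt g (img g' 3)) (app_lt g (img g' 4)) (app_lt g (img g' 5))
  show (sel v 0 (img (cmp g g') 0) ^^^ sel v 1 (img (cmp g g') 1) ^^^
      (sel v 2 (img (cmp g g') 2) ^^^ sel v 3 (img (cmp g g') 3)) ^^^
      (sel v 4 (img (cmp g g') 4) ^^^ sel v 5 (img (cmp g g') 5))) =
    app g (sel v 0 (img g' 0) ^^^ sel v 1 (img g' 1) ^^^ (sel v 2 (img g' 2) ^^^ sel v 3 (img g' 3)) ^^^
      (sel v 4 (img g' 4) ^^^ sel v 5 (img g' 5)))
  simp only [cmp, h0, h1, h2, h3, h4, h5, app_xor, app_sel]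

/-- The code of the identity. -/
def idG : ℕ := 34630287489

theorem app_id {v : ℕ} (hv : v < 64) : app idG v = v := by
  have h : allFrom (fun v => Nat.beq (app idG v) v) 0 64 = true := by decide +kernel
  exact Nat.eq_of_beq_eq_true (allFrom_spec h v (Nat.zero_le v) (by omega))

/-- An additive map is given by the images of the unit vectors. -/
theorem exists_code (m : ℕ → ℕ) (hlt : ∀ v < 64, m v < 64)
    (hx : ∀ v < 64, ∀ w < 64, m (v ^^^ w) = m v ^^^ m w) : ∃ g, ∀ v < 64, m v = app g v := by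
  refine ⟨pack (m 1) (m 2) (m 4) (m 8) (m 16) (m 32), fun v hv => ?_⟩
  obtain ⟨h0, h1, h2, h3, h4, h5⟩ := img_pack (hlt 1 (by norm_num)) (hlt 2 (by norm_num)) (hlt 4 (by norm_num))
    (hlt 8 (by norm_num)) (hlt 16 (by norm_num)) (hlt 32 (by norm_num))
  have m0 : m 0 = 0 := by
    have h := hx 0 (by norm_num) 0 (by norm_num)
    rwa [Nat.xor_self, Nat.xor_self] at h
  have hs : ∀ i < 6, ∀ x, x = 2 ^ i → sel v i (m x) = m (sel v i x) := fun i hi x hxi => by
    subst hxi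
    simp only [sel_eq]
    cases v.testBit i <;> simp [m0]
  have hl : ∀ i < 6, sel v i (2 ^ i) < 64 := fun i hi => sel_lt v i (by
    interval_cases i <;> norm_num)
  have hv' : v = sel v 0 1 ^^^ sel v 1 2 ^^^ (sel v 2 4 ^^^ sel v 3 8) ^^^ (sel v 4 16 ^^^ sel v 5 32) := by
    have h : allFrom (fun v => Nat.beq (Nat.xor (Nat.xor (Nat.xor (sel v 0 1) (sel v 1 2))
      (Nat.xor (sel v 2 4) (sel v 3 8))) (Nat.xor (sel v 4 16) (sel v 5 32))) v) 0 64 = true := by decide +kernel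
    exact (Nat.eq_of_beq_eq_true (allFrom_spec h v (Nat.zero_le v) (by omega))).symm
  have l0 : sel v 0 1 < 2 ^ 6 := hl 0 (by norm_num)
  have l1 : sel v 1 2 < 2 ^ 6 := hl 1 (by norm_num)
  have l2 : sel v 2 4 < 2 ^ 6 := hl 2 (by norm_num)
  have l3 : sel v 3 8 < 2 ^ 6 := hl 3 (by norm_num)
  have l4 : sel v 4 16 < 2 ^ 6 := hl 4 (by norm_num)
  have l5 : sel v 5 32 < 2 ^ 6 := hl 5 (by norm_num)
  show m v = sel v 0 (img _ 0) ^^^ sel v 1 (img _ 1) ^^^ (sel v 2 (img _ 2) ^^^ sel v 3 (img _ 3)) ^^^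
    (sel v 4 (img _ 4) ^^^ sel v 5 (img _ 5))
  rw [h0, h1, h2, h3, h4, h5, hs 0 (by norm_num) 1 rfl, hs 1 (by norm_num) 2 rfl, hs 2 (by norm_num) 4 rfl,
    hs 3 (by norm_num) 8 rfl, hs 4 (by norm_num) 16 rfl, hs 5 (by norm_num) 32 rfl]
  conv_lhs => rw [hv']
  rw [hx _ (Nat.xor_lt_two_pow (Nat.xor_lt_two_pow l0 l1) (Nat.xor_lt_two_pow l2 l3)) _ (Nat.xor_lt_two_pow l4 l5),
    hx _ (Nat.xor_lt_two_pow l0 l1) _ (Nat.xor_lt_two_pow l2 l3), hx _ l0 _ l1, hx _ l2 _ l3, hx _ l4 _ l5]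

end CfsgLib.Spor.HeldRecog.Amalgam
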